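import Mathlib
import Cfsg.Agent.Helper9.J3C.Lin
import Cfsg.Agent.Helper7.SUGenH

set_option autoImplicit false

/-!
Vectors of length 6 over the field with four elements, coded by natural numbers (two bits for each
entry), the hermitian form and the unitary transvections of nine vectors as the kernel computes
them.
-/

namespace Cfsg.Agent.Helper9.Fi22U

open Cfsg Cfsg.Agent.Helper9.J3 Cfsg.Agent.Helper9.J3C F4 Matrix Cfsg.Agent.Helper8.SURoot

/-- the space of vectors. -/
abbrev V6 : Type := Fin 6 → F4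

instance factF4 : Fact (Fintype.card F4 = 2 ^ 2) := ⟨rfl⟩

/-- the special unitary group. -/
abbrev SU6 : Type := ↥(Cfsg.SU 6 F4 2)

/-- the vector with a given code. -/
def dec6 (c : ℕ) : V6 := fun i => ofNat (crd c i.val)

theorem dec6_apply (c : ℕ) (i : Fin 6) : dec6 c i = ofNat (crd c i.val) := rfl

/-- the square of a code. -/
def sqC (x : ℕ) : ℕ := mulC x x

theorem sqC_lt (x : ℕ) : sqC x < 4 := mulC_lt _ _

theorem ofNat_sqC (x : ℕ) (hx : x < 4) : ofNat (sqC x) = (ofNat x) ^ 2 := by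
  unfold sqC
  rw [ofNat_mulC _ hx _ hx, sq]

/-- the hermitian form of two coded vectors. -/
def hermC (c p : ℕ) : ℕ := xsum (fun j => mulC (crd c j) (sqC (crd p j))) 6

theorem hermC_lt (c p : ℕ) : hermC c p < 4 := xsum_lt _ (fun _ => mulC_lt _ _) 6

theorem ofNat_hermC (c p : ℕ) : ofNat (hermC c p) = hermForm 6 F4 2 (dec6 c) (dec6 p) := by
  unfold hermC
  rw [ofNat_xsum _ (fun j => mulC_lt _ _), ← Fin.sum_univ_eq_sum_range
    (fun j => ofNat (mulC (crd c j) (sqC (crd p j)))) 6]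
  unfold hermForm
  apply Finset.sum_congr rfl
  intro j _
  rw [ofNat_mulC _ (crd_lt _ _) _ (sqC_lt _), ofNat_sqC _ (crd_lt _ _)]
  rfl

theorem crd_xor (a b i : ℕ) : crd (Nat.xor a b) i = Nat.xor (crd a i) (crd b i) := by
  change (a ^^^ b) >>> (2 * i) &&& 3 = (a >>> (2 * i) &&& 3) ^^^ (b >>> (2 * i) &&& 3)
  rw [Nat.shiftRight_xor_distrib, Nat.and_xor_distrib_right]

theorem dec6_xor (a b : ℕ) : dec6 (Nat.xor a b) = dec6 a + dec6 b := by
  funext i
  rw [Pi.add_apply, dec6_apply, dec6_apply, dec6_apply, crd_xor,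
    ofNat_xor _ (crd_lt _ _) _ (crd_lt _ _)]

/-- the nine vectors, packed. -/
def gvT : ℕ := 0x790d84185afe77aa32a6b3f1d11

/-- the multiples of the nine vectors, packed. -/
def mulsT : ℕ :=
  0xe709e0790000b4c6c8d8400034f2ca1850005a9f57afe000ee599f77a000521f13a320005d6fbda6b0002a31523f1000b33622d11000

/-- the nine vectors. -/
def gv (g : ℕ) : ℕ := lkF 12 4095 gvT g

/-- a multiple of one of the nine vectors. -/
def smG (g l : ℕ) : ℕ := lkF 12 4095 mulsT (Nat.add (Nat.mul 4 g) l)

/-- the unitary transvection of one of the nine vectors, on coded vectors. -/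
def tvG (g c : ℕ) : ℕ := Nat.xor c (smG g (hermC c (gv g)))

theorem gv_iso : ∀ g, g < 9 → hermC (gv g) (gv g) = 0 := by decide +kernel

theorem smG_crd : ∀ g, g < 9 → ∀ l, l < 4 → ∀ i, i < 6 →
    crd (smG g l) i = mulC l (crd (gv g) i) := by decide +kernel

theorem dec6_smG {g : ℕ} (hg : g < 9) {l : ℕ} (hl : l < 4) :
    dec6 (smG g l) = ofNat l • dec6 (gv g) := by
  funext i
  rw [Pi.smul_apply, dec6_apply, dec6_apply, smG_crd g hg l hl i.val i.isLt,
    ofNat_mulC _ hl _ (crd_lt _ _)]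
  rfl

theorem gv_herm {g : ℕ} (hg : g < 9) : hermForm 6 F4 2 (dec6 (gv g)) (dec6 (gv g)) = 0 := by
  rw [← ofNat_hermC, gv_iso g hg]
  rfl

theorem tz_one : (1 : F4) ^ 2 + 1 = 0 := by decide

/-- the unitary transvections of the nine vectors. -/
noncomputable def TUg (g : ℕ) : SU6 := TU 2 (dec6 (gv g)) 1

theorem dec6_tvG {g : ℕ} (hg : g < 9) (c : ℕ) : dec6 (tvG g c) = mt (TUg g) *ᵥ dec6 c := by
  unfold TUg tvG
  rw [TU_mulVec (gv_herm hg) tz_one, dec6_xor, dec6_smG hg (hermC_lt _ _), ofNat_hermC, one_mul]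

theorem TUg_sq {g : ℕ} (hg : g < 9) : TUg g * TUg g = 1 := by
  unfold TUg
  rw [TU_mul (gv_herm hg) tz_one tz_one]
  have : (1 : F4) + 1 = 0 := by decide
  rw [this, TU_zero _ (gv_herm hg)]

theorem TUg_inv {g : ℕ} (hg : g < 9) : (TUg g)⁻¹ = TUg g :=
  inv_eq_of_mul_eq_one_right (TUg_sq hg)

/-- the disjunction. -/
def orB (a b : Bool) : Bool := Bool.rec b true a

theorem orB_true {a b : Bool} (h : orB a b = true) : a = true ∨ b = true := by
  cases a
  · exact Or.inr h
  · exact Or.inl rfl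

/-- the second coded vector is a given multiple of the first. -/
def propM (m c' c : ℕ) : Bool := allB (fun i => Nat.beq (crd c i) (mulC m (crd c' i))) 6

/-- the second coded vector is a multiple of the first by a scalar other than zero. -/
def propC (c' c : ℕ) : Bool := orB (propM 1 c' c) (orB (propM 2 c' c) (propM 3 c' c))

theorem propM_spec {m c' c : ℕ} (hm : m < 4) (h : propM m c' c = true) :
    dec6 c = ofNat m • dec6 c' := by
  funext i
  have h1 := Nat.eq_of_beq_eq_true (allB_true h i.isLt)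
  rw [Pi.smul_apply, dec6_apply, dec6_apply, h1, ofNat_mulC _ hm _ (crd_lt _ _)]
  rfl

theorem propC_spec {c' c : ℕ} (h : propC c' c = true) :
    ∃ μ : F4, μ ≠ 0 ∧ dec6 c = μ • dec6 c' := by
  rcases orB_true h with h | h
  · exact ⟨ofNat 1, by decide, propM_spec (by norm_num) h⟩
  · rcases orB_true h with h | h
    · exact ⟨ofNat 2, by decide, propM_spec (by norm_num) h⟩
    · exact ⟨ofNat 3, by decide, propM_spec (by norm_num) h⟩

/-- the code of a vector. -/
def encV (p : V6) : ℕ :=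
  (p 0).val.val + 4 * (p 1).val.val + 16 * (p 2).val.val + 64 * (p 3).val.val +
    256 * (p 4).val.val + 1024 * (p 5).val.val

theorem encV_lt (p : V6) : encV p < 4096 := by
  unfold encV
  have h0 := (p 0).val.isLt
  have h1 := (p 1).val.isLt
  have h2 := (p 2).val.isLt
  have h3 := (p 3).val.isLt
  have h4 := (p 4).val.isLt
  have h5 := (p 5).val.isLt
  omega

theorem crd_eq (c i : ℕ) : crd c i = c / 4 ^ i % 4 := by
  change c >>> (2 * i) &&& 3 = _
  rw [Nat.shiftRight_eq_div_pow, pow_mul]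
  exact Nat.and_two_pow_sub_one_eq_mod _ 2

theorem ofNat_val (x : F4) : ofNat x.val.val = x := by
  cases x with
  | mk v =>
    change F4.mk ⟨v.val % 4, _⟩ = F4.mk v
    congr 1
    exact Fin.ext (Nat.mod_eq_of_lt v.isLt)

theorem dec6_encV (p : V6) : dec6 (encV p) = p := by
  have h0 := (p 0).val.isLt
  have h1 := (p 1).val.isLt
  have h2 := (p 2).val.isLt
  have h3 := (p 3).val.isLt
  have h4 := (p 4).val.isLt
  have h5 := (p 5).val.isLt
  funext i
  rw [dec6_apply, crd_eq]
  unfold encV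
  fin_cases i
  · have : ((p 0).val.val + 4 * (p 1).val.val + 16 * (p 2).val.val + 64 * (p 3).val.val +
      256 * (p 4).val.val + 1024 * (p 5).val.val) / 4 ^ (0 : ℕ) % 4 = (p 0).val.val := by omega
    simp only [Fin.zero_eta]
    rw [this, ofNat_val]
  · have : ((p 0).val.val + 4 * (p 1).val.val + 16 * (p 2).val.val + 64 * (p 3).val.val +
      256 * (p 4).val.val + 1024 * (p 5).val.val) / 4 ^ (1 : ℕ) % 4 = (p 1).val.val := by omega
    simp only [Fin.mk_one]
    rw [this, ofNat_val]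
  · have : ((p 0).val.val + 4 * (p 1).val.val + 16 * (p 2).val.val + 64 * (p 3).val.val +
      256 * (p 4).val.val + 1024 * (p 5).val.val) / 4 ^ (2 : ℕ) % 4 = (p 2).val.val := by omega
    change ofNat (_ / 4 ^ (2 : ℕ) % 4) = p 2
    rw [this, ofNat_val]
  · have : ((p 0).val.val + 4 * (p 1).val.val + 16 * (p 2).val.val + 64 * (p 3).val.val +
      256 * (p 4).val.val + 1024 * (p 5).val.val) / 4 ^ (3 : ℕ) % 4 = (p 3).val.val := by omega
    change ofNat (_ / 4 ^ (3 : ℕ) % 4) = p 3
    rw [this, ofNat_val]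
  · have : ((p 0).val.val + 4 * (p 1).val.val + 16 * (p 2).val.val + 64 * (p 3).val.val +
      256 * (p 4).val.val + 1024 * (p 5).val.val) / 4 ^ (4 : ℕ) % 4 = (p 4).val.val := by omega
    change ofNat (_ / 4 ^ (4 : ℕ) % 4) = p 4
    rw [this, ofNat_val]
  · have : ((p 0).val.val + 4 * (p 1).val.val + 16 * (p 2).val.val + 64 * (p 3).val.val +
      256 * (p 4).val.val + 1024 * (p 5).val.val) / 4 ^ (5 : ℕ) % 4 = (p 5).val.val := by omega
    change ofNat (_ / 4 ^ (5 : ℕ) % 4) = p 5
    rw [this, ofNat_val]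

theorem dec6_zero : dec6 0 = 0 := by
  funext i
  fin_cases i <;> rfl

theorem encV_ne_zero {p : V6} (hp : p ≠ 0) : encV p ≠ 0 := by
  intro h
  apply hp
  rw [← dec6_encV p, h, dec6_zero]

end Cfsg.Agent.Helper9.Fi22U
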