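import Mathlib
import Cfsg.Agent.Helper5.Fi22cTCSum
import Cfsg.Agent.Helper9.Fi22U.Data
import Cfsg.Agent.Helper9.Fi22U.Vec

set_option autoImplicit false
set_option Elab.async false

/-!
Kernel checks for the subgroup of the Fischer group on 3510 points: the letters and the word act
on the labels as unitary transvections, the tree, the points of the isotropic vectors, and the
two words.
-/

namespace Cfsg.Agent.Helper9.Fi22U

open Cfsg.Agent.Helper9.J3 Cfsg.Agent.Helper9.J3C Cfsg.Agent.Helper5.TC Cfsg.Agent.Helper5.Fi22cTC

/-- the implication. -/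
def impB (a b : Bool) : Bool := Bool.rec true b a

theorem impB_true {a b : Bool} (h : impB a b = true) (ha : a = true) : b = true := by
  subst ha
  exact h

/-- a point has a label. -/
def isL (v : ℕ) : Bool := Nat.blt (labF v) 4096

theorem isL_iff (v : ℕ) : isL v = true ↔ labF v < 4096 := by
  unfold isL
  rw [Nat.blt_eq]

/-- a letter acts on the labels as a transvection. -/
def chk1 (g x : ℕ) (v : ℕ) : Bool :=
  impB (isL v) (sapp (fun u => andB (isL u) (propC (labF u) (tvG g (labF v)))) (ctF x v))

/-- the first letter fixes the points with a label. -/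
def chk0 (v : ℕ) : Bool := impB (isL v) (Nat.beq (ctF 0 v) v)

/-- the image of a coded vector under the product of five transvections. -/
def mwC (c : ℕ) : ℕ := tvG 0 (tvG 2 (tvG 5 (tvG 7 (tvG 8 c))))

/-- the image of a coded vector under the product of five transvections, in the other order. -/
def mwiC (c : ℕ) : ℕ := tvG 8 (tvG 7 (tvG 5 (tvG 2 (tvG 0 c))))

/-- the image of a point under the word. -/
def wlk (v : ℕ) : ℕ := walkT ctF (D.wlen 92) (D.wordP 92) v

/-- the word acts on the labels as a product of five transvections. -/
def chkW (v : ℕ) : Bool :=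
  impB (isL v) (sapp (fun u => andB (isL u)
    (andB (propC (labF u) (mwC (labF v))) (propC (labF u) (mwiC (labF v))))) (wlk v))

/-- the tree. -/
def chkT (v : ℕ) : Bool :=
  impB (isL v) (orB (Nat.beq v 6)
    (sapp (fun p => andB (Nat.blt p 3510) (andB (isL p) (andB (Nat.blt (depF p) (depF v))
      (sapp (fun x => orB (andB (Nat.blt x 9) (andB (Nat.blt 1 x) (Nat.beq (ctF x p) v)))
        (andB (Nat.beq x 9) (Nat.beq (wlk p) v))) (genF v))))) (parF v)))

/-- the points of the coded isotropic vectors. -/
def chkF (c : ℕ) : Bool :=
  orB (Nat.beq c 0) (orB (Nat.blt 0 (hermC c c))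
    (sapp (fun p => andB (Nat.blt p 3510) (andB (isL p) (propC (labF p) c))) (flagF c)))

set_option maxRecDepth 1000000 in
theorem chk0_all : allB chk0 3510 = true := by decide +kernel

set_option maxRecDepth 1000000 in
theorem chk1_all : allB (fun g => allB (chk1 g (Nat.add g 2)) 3510) 7 = true := by decide +kernel

set_option maxRecDepth 1000000 in
theorem chkW_all : allB chkW 3510 = true := by decide +kernel

set_option maxRecDepth 1000000 in
theorem chkT_all : allB chkT 3510 = true := by decide +kernel

set_option maxRecDepth 1000000 in
theorem chkF_all : allB chkF 4096 = true := by decide +kernel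

theorem root_lab : labF 6 = gv 0 := by decide +kernel

end Cfsg.Agent.Helper9.Fi22U
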