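import Mathlib
import Cfsg.Prelude
import Cfsg.Agent.S1687
import Cfsg.Agent.S1696

set_option autoImplicit false

/-!
The action of the presented Fischer group on the 3510 cosets of the subgroup generated by
`a, c, d, e, f, g, h, i` and `(abcdeh)^5`, from the certified coset table; it is transitive and
faithful.
-/

namespace Cfsg.Agent.Helper9.Fi22U

open Cfsg Cfsg.Spor Cfsg.Agent.Helper5.TC Cfsg.Agent.Helper5.Fi22cTC
open Cfsg.Agent.S1687 MulAction

/-- the number of points. -/
abbrev nP : ℕ := 3510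

/-- the letters as permutations. -/
noncomputable def sg (x : ℕ) : Equiv.Perm (Fin nP) := tblPerm ctF nP x

theorem sg_eq (x : ℕ) : sg x = tblPerm ctF nP x := rfl

theorem tbl_ok {x : ℕ} (hx : x < 9) : ∀ v, v < nP → ctF x v < nP ∧ ctF x (ctF x v) = v :=
  hT x hx

theorem tbl_apply {x : ℕ} (v : Fin nP)
    (h : ∀ v, v < nP → ctF x v < nP ∧ ctF x (ctF x v) = v) :
    ((tblPerm ctF nP x) v).val = ctF x v.val :=
  @tblPerm_apply ctF nP x h v

theorem sg_apply {x : ℕ} (hx : x < 9) (v : Fin nP) : (sg x v).val = ctF x v.val := by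
  rw [sg_eq]
  exact tbl_apply v (tbl_ok hx)

theorem sg_sq (x : ℕ) : sg x * sg x = 1 := tblPerm_sq ctF nP x

theorem sg_inv (x : ℕ) : (sg x)⁻¹ = sg x := inv_eq_of_mul_eq_one_right (sg_sq x)

theorem walk_apply (n w : ℕ) (h : lettersOK 9 n w = true) (v : Fin nP) :
    ((rprod sg (unpack n w)) v).val = walkT ctF n w v.val :=
  walkT_spec (N := nP) (k := 9) hT n w h v

theorem sg_rel (wi : ℕ) (hwi : wi < D.nrel) :
    rprod sg (unpack (D.wlen wi) (D.wordP wi)) = 1 := by
  have hnw : wi < D.nw := lt_of_lt_of_le hwi (by decide)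
  ext v
  have h := hrelT wi hwi v.val v.isLt
  change walkT ctF (D.wlen wi) (D.wordP wi) v.val = v.val at h
  rw [walk_apply (D.wlen wi) (D.wordP wi) (hltr wi hnw) v, h]
  rfl

attribute [irreducible] sg

/-- the relators of the presented group. -/
abbrev rels : Set (FreeGroup Fi22.Gen) := coxRelators Fi22.edges ∪ {r | r ∈ Fi22.extra}

theorem enc_lt (z : Fi22.Gen) : enc z < 9 := by cases z <;> decide

theorem dec_enc (z : Fi22.Gen) : S1687.dec (enc z) = z := by cases z <;> rfl

theorem sg_cox (x y : Fi22.Gen) :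
    (sg (enc x) * sg (enc y)) ^ coxLabel Fi22.edges x y = 1 := by
  have h1 := coxOK_spec cox_ok sg (enc_lt y) (enc_lt x)
  have h2 := sg_rel _ h1.1
  rw [h1.2] at h2
  simpa only [dec_enc] using h2

theorem sg_rels : ∀ r ∈ rels, FreeGroup.lift (fun z => sg (enc z)) r = 1 := by
  intro r hr
  rcases hr with ⟨x, _, y, _, rfl⟩ | hr
  · rw [map_pow, map_mul, FreeGroup.lift_apply_of, FreeGroup.lift_apply_of]
    exact sg_cox x y
  · obtain ⟨i, hi, rfl⟩ := List.getElem_of_mem hr
    rw [extra_match i hi _ sg sg_sq]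
    have hi' : i < 3 := hi
    exact sg_rel _ (by
      change 9 * 9 + i < 84
      omega)

/-- the action on the cosets. -/
noncomputable def phi : Fi22 →* Equiv.Perm (Fin nP) := PresentedGroup.toGroup sg_rels

theorem phi_of (z : Fi22.Gen) : phi (PresentedGroup.of z) = sg (enc z) :=
  PresentedGroup.toGroup.of sg_rels

theorem phi_mk (x : FreeGroup Fi22.Gen) :
    phi (PresentedGroup.mk rels x) = FreeGroup.lift (fun z => sg (enc z)) x := rfl

theorem sg_one_ne : sg 1 ≠ 1 := by
  intro h
  have h1 := sg_apply (x := 1) (by norm_num) ⟨0, by norm_num⟩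
  rw [h] at h1
  revert h1
  decide +kernel

theorem sg_zero_ne : sg 0 ≠ 1 := by
  intro h
  have h1 := sg_apply (x := 0) (by norm_num) ⟨1, by norm_num⟩
  rw [h] at h1
  revert h1
  decide +kernel

theorem phi_injective : Function.Injective phi := by
  have hs : IsSimpleGroup Fi22 := Cfsg.Agent.S1696.result.1
  rw [← MonoidHom.ker_eq_bot_iff]
  rcases hs.eq_bot_or_eq_top_of_normal phi.ker inferInstance with h | h
  · exact h
  · exfalso
    have : PresentedGroup.of Fi22.Gen.b ∈ phi.ker := by
      rw [h]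
      trivial
    rw [MonoidHom.mem_ker, phi_of] at this
    exact sg_one_ne this

/-- the word of `(abcdeh)^5` as a permutation. -/
noncomputable def Wp : Equiv.Perm (Fin nP) := rprod sg (unpack (D.wlen 92) (D.wordP 92))

/-- the generators of the subgroup as permutations. -/
noncomputable def hset : Set (Equiv.Perm (Fin nP)) :=
  {sg 0, sg 2, sg 3, sg 4, sg 5, sg 6, sg 7, sg 8, Wp}

/-- the subgroup generated by `a, c, d, e, f, g, h, i, (abcdeh)^5` as a group of permutations. -/
noncomputable def HP : Subgroup (Equiv.Perm (Fin nP)) := Subgroup.closure hset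

/-- the subgroup of the presented group. -/
abbrev HS : Subgroup Fi22 :=
  (Subgroup.closure ({Fi22.a, Fi22.c, Fi22.d, Fi22.e, Fi22.f, Fi22.g, Fi22.h, Fi22.i,
    (Fi22.a * Fi22.b * Fi22.c * Fi22.d * Fi22.e * Fi22.h) ^ 5} : Set (FreeGroup Fi22.Gen))).map
    (PresentedGroup.mk rels)

theorem Wp_def : Wp = rprod sg (unpack (D.wlen 92) (D.wordP 92)) := rfl

theorem lift_W0 : FreeGroup.lift (fun z => sg (enc z))
    ((Fi22.a * Fi22.b * Fi22.c * Fi22.d * Fi22.e * Fi22.h) ^ 5) =
      rprod sg (unpack (D.wlen 92) (D.wordP 92)) := by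
  have h := subs_match 8 (show 8 < 9 by norm_num) _ sg sg_sq
  have e : D.nrel + 8 = 92 := rfl
  rw [e] at h
  simp only [subs, List.getElem_cons_zero, List.getElem_cons_succ] at h
  exact h

theorem lift_W : FreeGroup.lift (fun z => sg (enc z))
    ((Fi22.a * Fi22.b * Fi22.c * Fi22.d * Fi22.e * Fi22.h) ^ 5) = Wp := by
  rw [Wp_def]
  exact lift_W0

theorem map_HS : HS.map phi = HP := by
  unfold HS HP
  rw [Subgroup.map_map, MonoidHom.map_closure]
  unfold hset
  congr 1
  simp only [Set.image_insert_eq, Set.image_singleton, MonoidHom.comp_apply, phi_mk, lift_W]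
  simp only [Fi22.a, Fi22.c, Fi22.d, Fi22.e, Fi22.f, Fi22.g, Fi22.h, Fi22.i,
    FreeGroup.lift_apply_of]
  rfl

/-- the subgroup of the presented group is isomorphic to the group of permutations. -/
noncomputable def eHS : ↥HS ≃* ↥HP :=
  (HS.equivMapOfInjective phi phi_injective).trans (MulEquiv.subgroupCongr map_HS)

theorem eHS_apply (g : ↥HS) : (eHS g).1 = phi g.1 := rfl

theorem index_HS : HS.index = 3510 := by
  have h := Cfsg.Agent.S1687.result.1
  exact h

theorem card_HP : Nat.card ↥HP = 18393661440 := by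
  rw [← Nat.card_congr eHS.toEquiv]
  have h1 := Subgroup.index_mul_card HS
  rw [index_HS, Cfsg.Agent.S1696.result.2] at h1
  omega

theorem sg_mem_HP {x : ℕ} (hx : x < 9) (hx1 : x ≠ 1) : sg x ∈ HP := by
  apply Subgroup.subset_closure
  unfold hset
  interval_cases x
  · simp
  · exact absurd rfl hx1
  · simp
  · simp
  · simp
  · simp
  · simp
  · simp
  · simp

theorem Wp_mem_HP : Wp ∈ HP := by
  apply Subgroup.subset_closure
  unfold hset
  simp

/-- the cases of a generator. -/
theorem hset_cases {g : Equiv.Perm (Fin nP)} (hg : g ∈ hset) :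
    (∃ x, x < 9 ∧ x ≠ 1 ∧ g = sg x) ∨ g = Wp := by
  unfold hset at hg
  simp only [Set.mem_insert_iff, Set.mem_singleton_iff] at hg
  rcases hg with h | h | h | h | h | h | h | h | h
  · exact Or.inl ⟨0, by norm_num, by norm_num, h⟩
  · exact Or.inl ⟨2, by norm_num, by norm_num, h⟩
  · exact Or.inl ⟨3, by norm_num, by norm_num, h⟩
  · exact Or.inl ⟨4, by norm_num, by norm_num, h⟩
  · exact Or.inl ⟨5, by norm_num, by norm_num, h⟩
  · exact Or.inl ⟨6, by norm_num, by norm_num, h⟩
  · exact Or.inl ⟨7, by norm_num, by norm_num, h⟩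
  · exact Or.inl ⟨8, by norm_num, by norm_num, h⟩
  · exact Or.inr h

end Cfsg.Agent.Helper9.Fi22U
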