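import Mathlib
import Cfsg.Prelude.Def_SporadicB

set_option autoImplicit false

/-!
Group theory for double covers: a finite group that maps onto a group with trivial centre, with
twice as many elements, in such a way that a commutator that is not the identity maps to the
identity, is a double cover that does not split.
-/

namespace Cfsg.Agent.Helper9.Fi22U

/-- the property of being a double cover that does not split is carried along isomorphisms. -/
theorem nonsplit_congr {H H' K : Type*} [Group H] [Group H'] [Group K] (e : H ≃* H')
    (h : Cfsg.IsNonsplitDoubleCover H K) : Cfsg.IsNonsplitDoubleCover H' K := by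
  obtain ⟨h1, ⟨f⟩, h3⟩ := h
  have hc : (Subgroup.center H).map e.toMonoidHom = Subgroup.center H' := by
    ext x
    constructor
    · rintro ⟨y, hy, rfl⟩
      have hy' : ∀ g : H, g * y = y * g := Subgroup.mem_center_iff.1 hy
      apply Subgroup.mem_center_iff.2
      intro g
      obtain ⟨g', rfl⟩ := e.surjective g
      change e g' * e y = e y * e g'
      rw [← map_mul, ← map_mul, hy' g']
    · intro hx
      have hx' : ∀ g : H', g * x = x * g := Subgroup.mem_center_iff.1 hx
      refine ⟨e.symm x, ?_, by simp⟩
      apply Subgroup.mem_center_iff.2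
      intro g
      apply e.injective
      rw [map_mul, map_mul, e.apply_symm_apply]
      exact hx' (e g)
  refine ⟨?_, ?_, ?_⟩
  · rw [← hc, ← h1]
    exact Nat.card_congr ((Subgroup.center H).equivMapOfInjective e.toMonoidHom e.injective).symm.toEquiv
  · have e2 : H ⧸ Subgroup.center H ≃* H' ⧸ Subgroup.center H' :=
      QuotientGroup.congr (Subgroup.center H) (Subgroup.center H') e hc
    exact ⟨e2.symm.trans f⟩
  · intro L hL
    apply h3 (L.comap e.toMonoidHom)
    rw [Subgroup.isComplement'_def, Subgroup.isComplement_iff_existsUnique] at hL ⊢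
    intro g
    obtain ⟨⟨⟨z, hz⟩, ⟨l, hl⟩⟩, hzl, huniq⟩ := hL (e g)
    change z * l = e g at hzl
    have hz' : e.symm z ∈ Subgroup.center H := by
      rw [← hc] at hz
      obtain ⟨y, hy, rfl⟩ := hz
      simpa using hy
    have hl' : e.symm l ∈ L.comap e.toMonoidHom := by
      change e (e.symm l) ∈ L
      rw [e.apply_symm_apply]
      exact hl
    refine ⟨(⟨e.symm z, hz'⟩, ⟨e.symm l, hl'⟩), ?_, ?_⟩
    · change e.symm z * e.symm l = g
      rw [← map_mul, hzl, e.symm_apply_apply]
    · rintro ⟨⟨z2, hz2⟩, ⟨l2, hl2⟩⟩ h2
      change z2 * l2 = g at h2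
      have hz2' : e z2 ∈ Subgroup.center H' := by
        rw [← hc]
        exact ⟨z2, hz2, rfl⟩
      have := huniq (⟨e z2, hz2'⟩, ⟨e l2, hl2⟩) (by
        change e z2 * e l2 = e g
        rw [← map_mul, h2])
      have h3 := congrArg (fun p : ↥(Subgroup.center H') × ↥L => (p.1.1, p.2.1)) this
      simp only [Prod.mk.injEq] at h3
      have a1 : z2 = e.symm z := by rw [← h3.1, e.symm_apply_apply]
      have a2 : l2 = e.symm l := by rw [← h3.2, e.symm_apply_apply]
      subst a1 a2
      rfl

/-- a finite group that maps onto a group with trivial centre and half as many elements, with an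
element other than the identity in the kernel: the kernel is the centre, and it has two
elements. -/
theorem center_eq_ker {H T : Type*} [Group H] [Finite H] [Group T] (θ : H →* T)
    (hsurj : Function.Surjective θ) (hcard : Nat.card H = 2 * Nat.card T)
    (hT : Subgroup.center T = ⊥) (z : H) (hz1 : z ≠ 1) (hzk : θ z = 1) :
    Subgroup.center H = θ.ker ∧ Nat.card θ.ker = 2 := by
  have hTpos : 0 < Nat.card T := by
    have : Finite T := Finite.of_surjective θ hsurj
    exact Nat.card_pos
  -- the kernel has two elements
  have hker : Nat.card θ.ker = 2 := by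
    have h1 := Subgroup.card_eq_card_quotient_mul_card_subgroup θ.ker
    have h2 : Nat.card (H ⧸ θ.ker) = Nat.card T :=
      Nat.card_congr (QuotientGroup.quotientKerEquivOfSurjective θ hsurj).toEquiv
    rw [h2, hcard] at h1
    have : Nat.card T * 2 = Nat.card T * Nat.card θ.ker := by rw [← h1]; ring
    exact (Nat.eq_of_mul_eq_mul_left hTpos this).symm
  have hzmem : z ∈ θ.ker := hzk
  -- the elements of the kernel
  have hkel : ∀ x ∈ θ.ker, x = 1 ∨ x = z := by
    intro x hx
    by_contra hcon
    push Not at hcon
    have : Fintype ↥θ.ker := Fintype.ofFinite _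
    have h3 : 2 < Nat.card θ.ker := by
      rw [Nat.card_eq_fintype_card]
      apply Fintype.two_lt_card_iff.2
      refine ⟨⟨1, θ.ker.one_mem⟩, ⟨z, hzmem⟩, ⟨x, hx⟩, ?_, ?_, ?_⟩
      · intro h
        exact hz1 (congrArg Subtype.val h).symm
      · intro h
        exact hcon.1 (congrArg Subtype.val h).symm
      · intro h
        exact hcon.2 (congrArg Subtype.val h).symm
    omega
  -- the kernel is the centre
  have hcen : Subgroup.center H = θ.ker := by
    apply le_antisymm
    · intro x hx
      rw [MonoidHom.mem_ker]
      have : θ x ∈ Subgroup.center T := by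
        rw [Subgroup.mem_center_iff] at hx ⊢
        intro t
        obtain ⟨g, rfl⟩ := hsurj t
        rw [← map_mul, ← map_mul, hx g]
      rw [hT, Subgroup.mem_bot] at this
      exact this
    · intro x hx
      rw [Subgroup.mem_center_iff]
      intro g
      rcases hkel x hx with rfl | rfl
      · rw [mul_one, one_mul]
      · have hn : g * x * g⁻¹ ∈ θ.ker := (MonoidHom.normal_ker θ).conj_mem x hx g
        rcases hkel _ hn with h | h
        · exfalso
          apply hz1
          have : x = g⁻¹ * (g * x * g⁻¹) * g := by group
          rw [this, h]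
          group
        · calc g * x = g * x * g⁻¹ * g := by group
            _ = x * g := by rw [h]
  exact ⟨hcen, hker⟩

/-- a finite group that maps onto a group with trivial centre and half as many elements, so that
an element of the derived subgroup other than the identity is in the kernel, is a double cover of
it that does not split. -/
theorem nonsplit_of_hom {H T : Type*} [Group H] [Finite H] [Group T] (θ : H →* T)
    (hsurj : Function.Surjective θ) (hcard : Nat.card H = 2 * Nat.card T)
    (hT : Subgroup.center T = ⊥) (z : H) (hz1 : z ≠ 1) (hzk : θ z = 1)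
    (hzc : z ∈ commutator H) : Cfsg.IsNonsplitDoubleCover H T := by
  obtain ⟨hcen, hker⟩ := center_eq_ker θ hsurj hcard hT z hz1 hzk
  have hzmem : z ∈ θ.ker := hzk
  refine ⟨by rw [hcen, hker], ?_, ?_⟩
  · exact ⟨(QuotientGroup.quotientMulEquivOfEq hcen).trans
      (QuotientGroup.quotientKerEquivOfSurjective θ hsurj)⟩
  · intro L hL
    have hidx : L.index = 2 := by
      have h1 := hL.card_mul_card
      have h2 := Subgroup.card_mul_index L
      rw [hcen, hker] at h1
      have hLpos : 0 < Nat.card L := Nat.card_pos
      have : Nat.card ↥L * L.index = Nat.card ↥L * 2 := by rw [h2, ← h1]; ring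
      exact Nat.eq_of_mul_eq_mul_left hLpos this
    have hnorm : L.Normal := Subgroup.normal_of_index_eq_two hidx
    have hcomm : commutator H ≤ L := by
      have : IsMulCommutative (H ⧸ L) := by
        have hc : Nat.card (H ⧸ L) = 2 := hidx
        have : Fact (Nat.Prime 2) := ⟨Nat.prime_two⟩
        have hcyc : IsCyclic (H ⧸ L) := isCyclic_of_prime_card hc
        exact ⟨⟨fun a b => (IsCyclic.commGroup (α := H ⧸ L)).mul_comm a b⟩⟩
      exact (Subgroup.Normal.quotient_commutative_iff_commutator_le).1 this
    have hzL : z ∈ L := hcomm hzc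
    have hzZ : z ∈ Subgroup.center H := by rw [hcen]; exact hzmem
    have hdisj := hL.disjoint
    have : z ∈ Subgroup.center H ⊓ L := ⟨hzZ, hzL⟩
    rw [hdisj.eq_bot, Subgroup.mem_bot] at this
    exact hz1 this

/-- a subgroup of a product whose first projection is onto, in which the elements with first
coordinate the identity have their second coordinate in a normal subgroup, gives a homomorphism to
the quotient by it. -/
theorem hom_of_graph {H S : Type*} [Group H] [Group S] (N : Subgroup S) [N.Normal]
    (R : Subgroup (H × S)) (h1 : ∀ s : S, ((1 : H), s) ∈ R → s ∈ N)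
    (h3 : ∀ h : H, ∃ s : S, (h, s) ∈ R) :
    ∃ θ : H →* S ⧸ N, ∀ h s, (h, s) ∈ R → θ h = (s : S ⧸ N) := by
  have huniq : ∀ h s s', (h, s) ∈ R → (h, s') ∈ R → (s : S ⧸ N) = (s' : S ⧸ N) := by
    intro h s s' hs hs'
    rw [QuotientGroup.eq]
    apply h1
    have := R.mul_mem (R.inv_mem hs) hs'
    simpa using this
  let f : H → S ⧸ N := fun h => ((Classical.choose (h3 h) : S) : S ⧸ N)
  have hf : ∀ h s, (h, s) ∈ R → f h = (s : S ⧸ N) := fun h s hs =>
    huniq h _ s (Classical.choose_spec (h3 h)) hs
  refine ⟨MonoidHom.mk' f ?_, hf⟩
  intro a b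
  have ha := Classical.choose_spec (h3 a)
  have hb := Classical.choose_spec (h3 b)
  have hab := R.mul_mem ha hb
  rw [hf (a * b) _ hab]
  rfl

end Cfsg.Agent.Helper9.Fi22U
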