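import Mathlib
import Cfsg.Agent.Helper5.Fi22cTCSum
import Cfsg.Agent.Helper9.Fi22U.Data

set_option autoImplicit false
set_option Elab.async false

/-!
Kernel checks for the subgroup of the Fischer group on 3510 points: the fifth power of a commutator is the first letter.
-/

namespace Cfsg.Agent.Helper9.Fi22U

open Cfsg.Agent.Helper5.TC Cfsg.Agent.Helper5.Fi22cTC

set_option maxRecDepth 1000000 in
theorem relC_ok0 : relPtsF ctF 361 wC 390 0 = true := by decide +kernel

set_option maxRecDepth 1000000 in
theorem relC_ok1 : relPtsF ctF 361 wC 390 390 = true := by decide +kernel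

set_option maxRecDepth 1000000 in
theorem relC_ok2 : relPtsF ctF 361 wC 390 780 = true := by decide +kernel

set_option maxRecDepth 1000000 in
theorem relC_ok3 : relPtsF ctF 361 wC 390 1170 = true := by decide +kernel

set_option maxRecDepth 1000000 in
theorem relC_ok4 : relPtsF ctF 361 wC 390 1560 = true := by decide +kernel

set_option maxRecDepth 1000000 in
theorem relC_ok5 : relPtsF ctF 361 wC 390 1950 = true := by decide +kernel

set_option maxRecDepth 1000000 in
theorem relC_ok6 : relPtsF ctF 361 wC 390 2340 = true := by decide +kernel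

set_option maxRecDepth 1000000 in
theorem relC_ok7 : relPtsF ctF 361 wC 390 2730 = true := by decide +kernel

set_option maxRecDepth 1000000 in
theorem relC_ok8 : relPtsF ctF 361 wC 390 3120 = true := by decide +kernel

theorem relC_ok : ∀ v, v < 3510 → walkT ctF 361 wC v = v := by
  intro v hv
  rcases Nat.lt_or_ge v 390 with h0 | h0
  · exact relPtsF_spec ctF _ _ 390 0 relC_ok0 v (by omega) (by omega)
  rcases Nat.lt_or_ge v 780 with h1 | h1
  · exact relPtsF_spec ctF _ _ 390 390 relC_ok1 v (by omega) (by omega)
  rcases Nat.lt_or_ge v 1170 with h2 | h2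
  · exact relPtsF_spec ctF _ _ 390 780 relC_ok2 v (by omega) (by omega)
  rcases Nat.lt_or_ge v 1560 with h3 | h3
  · exact relPtsF_spec ctF _ _ 390 1170 relC_ok3 v (by omega) (by omega)
  rcases Nat.lt_or_ge v 1950 with h4 | h4
  · exact relPtsF_spec ctF _ _ 390 1560 relC_ok4 v (by omega) (by omega)
  rcases Nat.lt_or_ge v 2340 with h5 | h5
  · exact relPtsF_spec ctF _ _ 390 1950 relC_ok5 v (by omega) (by omega)
  rcases Nat.lt_or_ge v 2730 with h6 | h6
  · exact relPtsF_spec ctF _ _ 390 2340 relC_ok6 v (by omega) (by omega)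
  rcases Nat.lt_or_ge v 3120 with h7 | h7
  · exact relPtsF_spec ctF _ _ 390 2730 relC_ok7 v (by omega) (by omega)
  exact relPtsF_spec ctF _ _ 390 3120 relC_ok8 v (by omega) (by omega)

end Cfsg.Agent.Helper9.Fi22U
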