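import Mathlib
import Cfsg.Agent.Helper5.Fi22cTCSum
import Cfsg.Agent.Helper9.Fi22U.Data

set_option autoImplicit false
set_option Elab.async false

/-!
Kernel checks for the subgroup of the Fischer group on 3510 points: the word of `(abcdeh)^5` is an involution.
-/

namespace Cfsg.Agent.Helper9.Fi22U

open Cfsg.Agent.Helper5.TC Cfsg.Agent.Helper5.Fi22cTC

set_option maxRecDepth 1000000 in
theorem relWW_ok0 : relPtsF ctF 60 wWW 3510 0 = true := by decide +kernel

theorem relWW_ok : ∀ v, v < 3510 → walkT ctF 60 wWW v = v := by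
  intro v hv
  exact relPtsF_spec ctF _ _ 3510 0 relWW_ok0 v (by omega) (by omega)

end Cfsg.Agent.Helper9.Fi22U
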