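import Mathlib
import Cfsg.Agent.Helper9.Fi22U.Hom
import Cfsg.Agent.Helper9.Fi22U.Chk
import Cfsg.Agent.Helper9.Fi22U.ChkW

set_option autoImplicit false

/-!
The relation between the permutations of the 3510 points and the unitary matrices that act in the
same way on the labels of the 693 points fixed by the first letter: the generators of the subgroup
are related to unitary transvections and their products, and a matrix related to the identity is
a scalar.
-/

namespace Cfsg.Agent.Helper9.Fi22U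

open Cfsg Cfsg.Spor Cfsg.Agent.Helper5.TC Cfsg.Agent.Helper5.Fi22cTC
open Cfsg.Agent.Helper9.J3 Cfsg.Agent.Helper9.J3C F4 Matrix Cfsg.Agent.Helper8.SURoot

/-- the label of a point. -/
def lab (x : Fin nP) : ℕ := labF x.val

/-- a permutation and a unitary matrix that act in the same way on the labels. -/
def Inv1 (h : Equiv.Perm (Fin nP)) (m : SU6) : Prop :=
  ∀ pt : Fin nP, lab pt < 4096 → lab (h pt) < 4096 ∧
    ∃ μ : F4, μ ≠ 0 ∧ mt m *ᵥ dec6 (lab pt) = μ • dec6 (lab (h pt))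

theorem inv1_one : Inv1 1 1 := by
  intro pt hpt
  refine ⟨hpt, 1, one_ne_zero, ?_⟩
  rw [mt_one_mulVec, one_smul]
  rfl

theorem inv1_mul {h h' : Equiv.Perm (Fin nP)} {m m' : SU6} (a : Inv1 h m) (b : Inv1 h' m') :
    Inv1 (h * h') (m * m') := by
  intro pt hpt
  obtain ⟨h1, μ', hμ', e'⟩ := b pt hpt
  obtain ⟨h2, μ, hμ, e⟩ := a (h' pt) h1
  refine ⟨h2, μ' * μ, mul_ne_zero hμ' hμ, ?_⟩
  rw [mt_mul_mulVec, e', Matrix.mulVec_smul, e, smul_smul]
  rfl

/-- the pairs of a permutation and a unitary matrix that act in the same way on the labels, with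
their inverses. -/
def RU : Subgroup (Equiv.Perm (Fin nP) × SU6) where
  carrier := {p | Inv1 p.1 p.2 ∧ Inv1 p.1⁻¹ p.2⁻¹}
  one_mem' := by
    refine ⟨inv1_one, ?_⟩
    change Inv1 (1 : Equiv.Perm (Fin nP))⁻¹ (1 : SU6)⁻¹
    rw [inv_one, inv_one]
    exact inv1_one
  mul_mem' := by
    rintro ⟨h, m⟩ ⟨h', m'⟩ ⟨a1, a2⟩ ⟨b1, b2⟩
    refine ⟨inv1_mul a1 b1, ?_⟩
    change Inv1 (h * h')⁻¹ (m * m')⁻¹
    rw [_root_.mul_inv_rev, _root_.mul_inv_rev]
    exact inv1_mul b2 a2
  inv_mem' := by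
    rintro ⟨h, m⟩ ⟨a1, a2⟩
    refine ⟨a2, ?_⟩
    change Inv1 (h⁻¹)⁻¹ (m⁻¹)⁻¹
    rw [inv_inv, inv_inv]
    exact a1

theorem mem_RU (h : Equiv.Perm (Fin nP)) (m : SU6) :
    (h, m) ∈ RU ↔ Inv1 h m ∧ Inv1 h⁻¹ m⁻¹ := Iff.rfl

/-! ### the letters -/

theorem chk0_spec {v : ℕ} (hv : v < 3510) (hl : labF v < 4096) : ctF 0 v = v :=
  Nat.eq_of_beq_eq_true (impB_true (allB_true chk0_all hv) ((isL_iff v).2 hl))

theorem chk1_spec {g : ℕ} (hg : g < 7) {v : ℕ} (hv : v < 3510) (hl : labF v < 4096) :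
    labF (ctF (g + 2) v) < 4096 ∧
      ∃ μ : F4, μ ≠ 0 ∧ dec6 (tvG g (labF v)) = μ • dec6 (labF (ctF (g + 2) v)) := by
  have h1 := impB_true (allB_true (allB_true chk1_all hg) hv) ((isL_iff v).2 hl)
  rw [sapp_eq] at h1
  obtain ⟨h2, h3⟩ := andB_true h1
  exact ⟨(isL_iff _).1 h2, propC_spec h3⟩

theorem inv1_zero : Inv1 (sg 0) 1 := by
  intro pt hpt
  have e : sg 0 pt = pt := by
    apply Fin.ext
    rw [sg_apply (by norm_num)]
    exact chk0_spec pt.isLt hpt
  rw [e]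
  refine ⟨hpt, 1, one_ne_zero, ?_⟩
  rw [mt_one_mulVec, one_smul]

theorem zero_mem_RU : (sg 0, (1 : SU6)) ∈ RU := by
  refine ⟨inv1_zero, ?_⟩
  change Inv1 (sg 0)⁻¹ (1 : SU6)⁻¹
  rw [sg_inv, inv_one]
  exact inv1_zero

theorem inv1_letter {g : ℕ} (hg : g < 7) : Inv1 (sg (g + 2)) (TUg g) := by
  intro pt hpt
  have e : lab (sg (g + 2) pt) = labF (ctF (g + 2) pt.val) := by
    unfold lab
    rw [sg_apply (by omega)]
  rw [e, ← dec6_tvG (by omega)]
  exact chk1_spec hg pt.isLt hpt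

theorem letter_mem_RU {g : ℕ} (hg : g < 7) : (sg (g + 2), TUg g) ∈ RU := by
  refine ⟨inv1_letter hg, ?_⟩
  change Inv1 (sg (g + 2))⁻¹ (TUg g)⁻¹
  rw [sg_inv, TUg_inv (by omega)]
  exact inv1_letter hg

/-! ### the word -/

/-- the product of five transvections. -/
noncomputable def Mw : SU6 := TUg 0 * TUg 2 * TUg 5 * TUg 7 * TUg 8

/-- the product of five transvections in the other order. -/
noncomputable def Mwi : SU6 := TUg 8 * TUg 7 * TUg 5 * TUg 2 * TUg 0

theorem Mw_inv : Mw⁻¹ = Mwi := by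
  unfold Mw Mwi
  rw [_root_.mul_inv_rev, _root_.mul_inv_rev, _root_.mul_inv_rev, _root_.mul_inv_rev,
    TUg_inv (g := 0) (by norm_num), TUg_inv (g := 2) (by norm_num),
    TUg_inv (g := 5) (by norm_num), TUg_inv (g := 7) (by norm_num),
    TUg_inv (g := 8) (by norm_num), mul_assoc, mul_assoc, mul_assoc]

theorem dec6_mwC (c : ℕ) : dec6 (mwC c) = mt Mw *ᵥ dec6 c := by
  unfold mwC Mw
  rw [mt_mul_mulVec, mt_mul_mulVec, mt_mul_mulVec, mt_mul_mulVec,
    dec6_tvG (by norm_num), dec6_tvG (by norm_num), dec6_tvG (by norm_num),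
    dec6_tvG (by norm_num), dec6_tvG (by norm_num)]

theorem dec6_mwiC (c : ℕ) : dec6 (mwiC c) = mt Mwi *ᵥ dec6 c := by
  unfold mwiC Mwi
  rw [mt_mul_mulVec, mt_mul_mulVec, mt_mul_mulVec, mt_mul_mulVec,
    dec6_tvG (by norm_num), dec6_tvG (by norm_num), dec6_tvG (by norm_num),
    dec6_tvG (by norm_num), dec6_tvG (by norm_num)]

theorem Wp_apply (v : Fin nP) : (Wp v).val = wlk v.val :=
  walk_apply _ _ (hltr 92 (by decide)) v

theorem chkW_spec {v : ℕ} (hv : v < 3510) (hl : labF v < 4096) :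
    labF (wlk v) < 4096 ∧
      (∃ μ : F4, μ ≠ 0 ∧ dec6 (mwC (labF v)) = μ • dec6 (labF (wlk v))) ∧
      ∃ μ : F4, μ ≠ 0 ∧ dec6 (mwiC (labF v)) = μ • dec6 (labF (wlk v)) := by
  have h1 := impB_true (allB_true chkW_all hv) ((isL_iff v).2 hl)
  rw [sapp_eq] at h1
  obtain ⟨h2, h3⟩ := andB_true h1
  obtain ⟨h4, h5⟩ := andB_true h3
  exact ⟨(isL_iff _).1 h2, propC_spec h4, propC_spec h5⟩

theorem Wp_sq : Wp * Wp = 1 := by
  have e : Wp * Wp = rprod sg (unpack 60 wWW) := by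
    have h1 : unpack 60 wWW = unpack (D.wlen 92) (D.wordP 92) ++ unpack (D.wlen 92) (D.wordP 92) := by
      decide +kernel
    rw [h1, rprod_append]
    rfl
  rw [e]
  ext v
  rw [walk_apply _ _ (by decide +kernel) v, relWW_ok v.val v.isLt]
  rfl

theorem Wp_inv : Wp⁻¹ = Wp := inv_eq_of_mul_eq_one_right Wp_sq

theorem inv1_W : Inv1 Wp Mw := by
  intro pt hpt
  have e : lab (Wp pt) = labF (wlk pt.val) := by
    unfold lab
    rw [Wp_apply]
  rw [e, ← dec6_mwC]
  obtain ⟨h1, h2, _⟩ := chkW_spec pt.isLt hpt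
  exact ⟨h1, h2⟩

theorem inv1_Wi : Inv1 Wp Mwi := by
  intro pt hpt
  have e : lab (Wp pt) = labF (wlk pt.val) := by
    unfold lab
    rw [Wp_apply]
  rw [e, ← dec6_mwiC]
  obtain ⟨h1, _, h2⟩ := chkW_spec pt.isLt hpt
  exact ⟨h1, h2⟩

theorem W_mem_RU : (Wp, Mw) ∈ RU := by
  refine ⟨inv1_W, ?_⟩
  change Inv1 Wp⁻¹ Mw⁻¹
  rw [Wp_inv, Mw_inv]
  exact inv1_Wi

/-- every element of the subgroup is related to a unitary matrix. -/
theorem exists_rel : ∀ h ∈ HP, ∃ m : SU6, (h, m) ∈ RU := by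
  intro h hh
  induction hh using Subgroup.closure_induction with
  | mem n hn =>
    rcases hset_cases hn with ⟨x, hx, hx1, rfl⟩ | rfl
    · rcases Nat.eq_zero_or_pos x with rfl | hpos
      · exact ⟨1, zero_mem_RU⟩
      · have h2 : 2 ≤ x := by omega
        obtain ⟨g, rfl⟩ := Nat.exists_eq_add_of_le' h2
        exact ⟨TUg g, letter_mem_RU (by omega)⟩
    · exact ⟨Mw, W_mem_RU⟩
  | one => exact ⟨1, RU.one_mem⟩
  | mul a b _ _ ha hb =>
    obtain ⟨m, hm⟩ := ha
    obtain ⟨m', hm'⟩ := hb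
    exact ⟨m * m', RU.mul_mem hm hm'⟩
  | inv a _ ha =>
    obtain ⟨m, hm⟩ := ha
    exact ⟨m⁻¹, RU.inv_mem hm⟩

/-! ### the matrices related to the identity -/

theorem chkF_spec {c : ℕ} (hc : c < 4096) (h0 : c ≠ 0) (hi : hermC c c = 0) :
    ∃ p, p < 3510 ∧ labF p < 4096 ∧ ∃ μ : F4, μ ≠ 0 ∧ dec6 c = μ • dec6 (labF p) := by
  have h1 := allB_true chkF_all hc
  rcases orB_true h1 with h | h
  · exact absurd (Nat.eq_of_beq_eq_true h) h0
  · rcases orB_true h with h | h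
    · rw [hi] at h
      exact absurd h (by decide)
    · rw [sapp_eq] at h
      obtain ⟨h2, h3⟩ := andB_true h
      obtain ⟨h4, h5⟩ := andB_true h3
      rw [Nat.blt_eq] at h2
      exact ⟨flagF c, h2, (isL_iff _).1 h4, propC_spec h5⟩

/-- a matrix related to the identity has all the isotropic vectors as eigenvectors. -/
theorem eigen_of_rel {m : SU6} (h : ((1 : Equiv.Perm (Fin nP)), m) ∈ RU) {c : ℕ} (hc : c < 4096)
    (h0 : c ≠ 0) (hi : hermC c c = 0) : ∃ μ : F4, mt m *ᵥ dec6 c = μ • dec6 c := by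
  obtain ⟨p, hp, hl, ν, hν, e⟩ := chkF_spec hc h0 hi
  obtain ⟨_, μ, _, e2⟩ := h.1 ⟨p, hp⟩ hl
  change mt m *ᵥ dec6 (labF p) = μ • dec6 (labF p) at e2
  refine ⟨μ, ?_⟩
  rw [e, Matrix.mulVec_smul, e2, smul_smul, smul_smul, mul_comm]

/-- the code of a vector with two entries other than zero. -/
def w2 (i j k : ℕ) : ℕ := 4 ^ i + k * 4 ^ j

theorem w2_spec : ∀ i j : Fin 6, i < j → ∀ k : Fin 2,
    w2 i.val j.val (k.val + 1) < 4096 ∧ w2 i.val j.val (k.val + 1) ≠ 0 ∧
      hermC (w2 i.val j.val (k.val + 1)) (w2 i.val j.val (k.val + 1)) = 0 ∧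
      dec6 (w2 i.val j.val (k.val + 1)) =
        Pi.single i 1 + ofNat (k.val + 1) • Pi.single j 1 := by
  decide +kernel

/-- a matrix with enough eigenvectors is a scalar. -/
theorem scalar_of_eigen (M : Matrix (Fin 6) (Fin 6) F4)
    (h : ∀ i j : Fin 6, i < j → ∀ k : Fin 2, ∃ μ : F4,
      M *ᵥ (Pi.single i 1 + ofNat (k.val + 1) • Pi.single j 1) =
        μ • (Pi.single i 1 + ofNat (k.val + 1) • Pi.single j 1)) :
    ∃ a : F4, M = a • (1 : Matrix (Fin 6) (Fin 6) F4) := by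
  -- the equations on the entries
  have hent : ∀ i j : Fin 6, i < j → ∀ k : Fin 2, ∃ μ : F4, ∀ r : Fin 6,
      M r i + ofNat (k.val + 1) * M r j =
        μ * ((if r = i then 1 else 0) + ofNat (k.val + 1) * (if r = j then 1 else 0)) := by
    intro i j hij k
    obtain ⟨μ, hμ⟩ := h i j hij k
    refine ⟨μ, fun r => ?_⟩
    have := congrFun hμ r
    rw [Matrix.mulVec_add, Matrix.mulVec_smul, Matrix.mulVec_single_one,
      Matrix.mulVec_single_one] at this
    simpa [Pi.single_apply, Matrix.col_apply] using this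
  -- the entries off the diagonal
  have hoff2 : ∀ i j : Fin 6, i < j → ∀ r : Fin 6, r ≠ i → r ≠ j → M r i = 0 ∧ M r j = 0 := by
    intro i j hij r hri hrj
    obtain ⟨μ0, h0⟩ := hent i j hij 0
    obtain ⟨μ1, h1⟩ := hent i j hij 1
    have a0 := h0 r
    have a1 := h1 r
    rw [if_neg hri, if_neg hrj] at a0 a1
    have e1 : ofNat ((0 : Fin 2).val + 1) = (1 : F4) := rfl
    have e2 : ofNat ((1 : Fin 2).val + 1) = w := rfl
    rw [e1] at a0
    rw [e2] at a1
    simp only [mul_zero, add_zero, one_mul] at a0 a1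
    have hw : (1 + w) * M r j = 0 := by
      have : (1 + w) * M r j = (M r i + M r j) + (M r i + w * M r j) := by
        have h2 : M r i + M r i = 0 := by
          have : ∀ x : F4, x + x = 0 := by decide
          exact this _
        calc (1 + w) * M r j = 0 + (M r j + w * M r j) := by ring
          _ = (M r i + M r i) + (M r j + w * M r j) := by rw [h2]
          _ = _ := by ring
      rw [this, a0, a1, add_zero]
    have hj : M r j = 0 := by
      rcases mul_eq_zero.1 hw with h3 | h3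
      · exact absurd h3 (by decide)
      · exact h3
    rw [hj, add_zero] at a0
    exact ⟨a0, hj⟩
  have hthird : ∀ r l : Fin 6, ∃ i : Fin 6, i ≠ r ∧ i ≠ l := by decide
  have hoff : ∀ r l : Fin 6, r ≠ l → M r l = 0 := by
    intro r l hrl
    obtain ⟨i, hir, hil⟩ := hthird r l
    rcases lt_or_gt_of_ne hil with h1 | h1
    · exact (hoff2 i l h1 r (Ne.symm hir) hrl).2
    · exact (hoff2 l i h1 r hrl (Ne.symm hir)).1
  -- the entries on the diagonal
  have hdiag : ∀ i j : Fin 6, i < j → M i i = M j j := by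
    intro i j hij
    obtain ⟨μ0, h0⟩ := hent i j hij 0
    have a0 := h0 i
    have a1 := h0 j
    have e1 : ofNat ((0 : Fin 2).val + 1) = (1 : F4) := rfl
    rw [e1] at a0 a1
    rw [if_pos rfl, if_neg (ne_of_lt hij), hoff i j (ne_of_lt hij)] at a0
    rw [if_pos rfl, if_neg (ne_of_gt hij), hoff j i (ne_of_gt hij)] at a1
    simp only [mul_zero, add_zero, one_mul, zero_add, mul_one] at a0 a1
    rw [a0, a1]
  refine ⟨M 0 0, ?_⟩
  ext r l
  rw [Matrix.smul_apply, Matrix.one_apply, smul_eq_mul]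
  by_cases hrl : r = l
  · subst hrl
    rw [if_pos rfl, mul_one]
    rcases Nat.eq_zero_or_pos r.val with h0 | h0
    · have : r = 0 := Fin.ext h0
      rw [this]
    · exact (hdiag 0 r (by
        rw [Fin.lt_def]
        exact h0)).symm
  · rw [if_neg hrl, mul_zero]
    exact hoff r l hrl

/-- a unitary matrix related to the identity permutation is in the centre. -/
theorem RU_fst (m : SU6) (h : ((1 : Equiv.Perm (Fin nP)), m) ∈ RU) :
    m ∈ Subgroup.center SU6 := by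
  obtain ⟨a, ha⟩ := scalar_of_eigen (mt m) (by
    intro i j hij k
    obtain ⟨h1, h2, h3, h4⟩ := w2_spec i j hij k
    rw [← h4]
    exact eigen_of_rel h h1 h2 h3)
  rw [Subgroup.mem_center_iff]
  intro g
  apply Subtype.ext
  apply Subtype.ext
  change mt g * mt m = mt m * mt g
  rw [ha, Matrix.mul_smul, Matrix.smul_mul, mul_one, one_mul]

end Cfsg.Agent.Helper9.Fi22U
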