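import Mathlib
import Cfsg.Agent.Helper9.Fi22U.Rel
import Cfsg.Agent.Helper7.SUSimpD

set_option autoImplicit false

/-!
The unitary transvections of seven vectors and a product of five transvections generate the
special unitary group of degree 6 over the field with four elements: the transvection of the label
of every point is in the subgroup they generate, along the tree.
-/

namespace Cfsg.Agent.Helper9.Fi22U

open Cfsg Cfsg.Spor Cfsg.Agent.Helper5.TC Cfsg.Agent.Helper5.Fi22cTC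
open Cfsg.Agent.Helper9.J3 Cfsg.Agent.Helper9.J3C F4 Matrix Cfsg.Agent.Helper8.SURoot
open Cfsg.Agent.Helper7.Herm

/-- the matrices of the generators. -/
noncomputable def mgen : Fin 8 → SU6 :=
  ![TUg 0, TUg 1, TUg 2, TUg 3, TUg 4, TUg 5, TUg 6, Mw]

/-- the subgroup generated by the matrices of the generators. -/
noncomputable def MS : Subgroup SU6 := Subgroup.closure (Set.range mgen)

theorem mgen_mem (i : Fin 8) : mgen i ∈ MS := Subgroup.subset_closure ⟨i, rfl⟩

theorem TUg_mem {g : ℕ} (hg : g < 7) : TUg g ∈ MS := by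
  interval_cases g
  · exact mgen_mem 0
  · exact mgen_mem 1
  · exact mgen_mem 2
  · exact mgen_mem 3
  · exact mgen_mem 4
  · exact mgen_mem 5
  · exact mgen_mem 6

theorem Mw_mem : Mw ∈ MS := mgen_mem 7

/-- every generating matrix is related to an element of the subgroup. -/
theorem mgen_rel (i : Fin 8) : ∃ h ∈ HP, (h, mgen i) ∈ RU := by
  fin_cases i
  · exact ⟨sg 2, sg_mem_HP (by norm_num) (by norm_num), letter_mem_RU (g := 0) (by norm_num)⟩
  · exact ⟨sg 3, sg_mem_HP (by norm_num) (by norm_num), letter_mem_RU (g := 1) (by norm_num)⟩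
  · exact ⟨sg 4, sg_mem_HP (by norm_num) (by norm_num), letter_mem_RU (g := 2) (by norm_num)⟩
  · exact ⟨sg 5, sg_mem_HP (by norm_num) (by norm_num), letter_mem_RU (g := 3) (by norm_num)⟩
  · exact ⟨sg 6, sg_mem_HP (by norm_num) (by norm_num), letter_mem_RU (g := 4) (by norm_num)⟩
  · exact ⟨sg 7, sg_mem_HP (by norm_num) (by norm_num), letter_mem_RU (g := 5) (by norm_num)⟩
  · exact ⟨sg 8, sg_mem_HP (by norm_num) (by norm_num), letter_mem_RU (g := 6) (by norm_num)⟩
  · exact ⟨Wp, Wp_mem_HP, W_mem_RU⟩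

theorem chkT_spec {v : ℕ} (hv : v < 3510) (hl : labF v < 4096) :
    v = 6 ∨ ∃ p, p < 3510 ∧ labF p < 4096 ∧ depF p < depF v ∧
      ((∃ g, g < 7 ∧ ctF (g + 2) p = v) ∨ wlk p = v) := by
  have h1 := impB_true (allB_true chkT_all hv) ((isL_iff v).2 hl)
  rcases orB_true h1 with h | h
  · exact Or.inl (Nat.eq_of_beq_eq_true h)
  · right
    rw [sapp_eq] at h
    obtain ⟨h2, h3⟩ := andB_true h
    obtain ⟨h4, h5⟩ := andB_true h3
    obtain ⟨h6, h7⟩ := andB_true h5
    rw [Nat.blt_eq] at h2 h6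
    rw [sapp_eq] at h7
    refine ⟨parF v, h2, (isL_iff _).1 h4, h6, ?_⟩
    rcases orB_true h7 with h8 | h8
    · left
      obtain ⟨a1, a2⟩ := andB_true h8
      obtain ⟨a3, a4⟩ := andB_true a2
      rw [Nat.blt_eq] at a1 a3
      refine ⟨genF v - 2, by omega, ?_⟩
      have : genF v - 2 + 2 = genF v := by omega
      rw [this]
      exact Nat.eq_of_beq_eq_true a4
    · right
      exact Nat.eq_of_beq_eq_true (andB_true h8).2

theorem inv_mul_sq : ∀ μ : F4, μ ≠ 0 → μ⁻¹ * (μ⁻¹) ^ 2 = 1 := by decide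

/-- one step along the tree. -/
theorem step {h : Equiv.Perm (Fin nP)} {m : SU6} (hi : Inv1 h m) (hm : m ∈ MS) {p : Fin nP}
    (hl : lab p < 4096)
    (h0 : hermForm 6 F4 2 (dec6 (lab p)) (dec6 (lab p)) = 0)
    (h1 : TU 2 (dec6 (lab p)) 1 ∈ MS) :
    hermForm 6 F4 2 (dec6 (lab (h p))) (dec6 (lab (h p))) = 0 ∧
      TU 2 (dec6 (lab (h p))) 1 ∈ MS := by
  obtain ⟨_, μ, hμ, e⟩ := hi p hl
  have e2 : dec6 (lab (h p)) = μ⁻¹ • (mt m *ᵥ dec6 (lab p)) := by
    rw [e, smul_smul, inv_mul_cancel₀ hμ, one_smul]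
  have h2 : hermForm 6 F4 2 (mt m *ᵥ dec6 (lab p)) (mt m *ᵥ dec6 (lab p)) = 0 := by
    rw [herm_mt, h0]
  rw [e2]
  constructor
  · rw [hermForm_smul_smul, h2, mul_zero]
  · rw [TU_smul h2 tz_one, one_mul, inv_mul_sq μ hμ, ← conj_TU m h0 tz_one]
    exact MS.mul_mem (MS.mul_mem hm h1) (MS.inv_mem hm)

/-- the transvection of the label of every point is in the subgroup. -/
theorem TU_lab_mem : ∀ n : ℕ, ∀ v : Fin nP, depF v.val = n → lab v < 4096 →
    hermForm 6 F4 2 (dec6 (lab v)) (dec6 (lab v)) = 0 ∧ TU 2 (dec6 (lab v)) 1 ∈ MS := by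
  intro n
  induction n using Nat.strong_induction_on with
  | _ n ih =>
    intro v hn hl
    rcases chkT_spec v.isLt hl with h6 | ⟨p, hp, hlp, hdep, hstep⟩
    · have e : lab v = gv 0 := by
        unfold lab
        rw [h6]
        exact root_lab
      rw [e]
      exact ⟨gv_herm (by norm_num), TUg_mem (g := 0) (by norm_num)⟩
    · rw [hn] at hdep
      obtain ⟨i0, i1⟩ := ih (depF p) hdep ⟨p, hp⟩ rfl hlp
      rcases hstep with ⟨g, hg, e⟩ | e
      · have ev : v = sg (g + 2) ⟨p, hp⟩ := by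
          apply Fin.ext
          rw [sg_apply (by omega)]
          exact e.symm
        rw [ev]
        exact step (inv1_letter hg) (TUg_mem hg) hlp i0 i1
      · have ev : v = Wp ⟨p, hp⟩ := by
          apply Fin.ext
          rw [Wp_apply]
          exact e.symm
        rw [ev]
        exact step inv1_W Mw_mem hlp i0 i1

theorem tz_cases : ∀ s : F4, s ^ 2 + s = 0 → s = 0 ∨ s = 1 := by decide

theorem mul_sq_one : ∀ μ : F4, μ ≠ 0 → μ * μ ^ 2 = 1 := by decide

/-- the matrices of the generators generate the special unitary group. -/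
theorem MS_eq_top : MS = ⊤ := by
  rw [eq_top_iff, ← Cfsg.Agent.Helper7.SUGen.Tsub_eq_top (F := F4) (q := 2) 6 (by norm_num)
    (by omega)]
  unfold Cfsg.Agent.Helper7.SUGen.Tsub
  rw [Subgroup.closure_le]
  rintro _ ⟨p, s, hp, hs, rfl⟩
  rcases tz_cases s hs with rfl | rfl
  · rw [TU_zero p hp]
    exact MS.one_mem
  · by_cases hp0 : p = 0
    · rw [hp0, Cfsg.Agent.Helper7.SUSimp.TU_zero_left hs]
      exact MS.one_mem
    · have hc : hermC (encV p) (encV p) = 0 := by
        apply ofNat_inj _ (hermC_lt _ _) 0 (by norm_num)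
        rw [ofNat_hermC, dec6_encV, hp]
        rfl
      obtain ⟨pt, hpt, hl, μ, hμ, e⟩ := chkF_spec (encV_lt p) (encV_ne_zero hp0) hc
      rw [dec6_encV] at e
      obtain ⟨i0, i1⟩ := TU_lab_mem _ ⟨pt, hpt⟩ rfl hl
      change hermForm 6 F4 2 (dec6 (labF pt)) (dec6 (labF pt)) = 0 at i0
      change TU 2 (dec6 (labF pt)) 1 ∈ MS at i1
      change TU 2 p 1 ∈ MS
      rw [e, TU_smul i0 tz_one, one_mul, mul_sq_one μ hμ]
      exact i1

end Cfsg.Agent.Helper9.Fi22U
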