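import Mathlib
import Cfsg.Agent.Helper9.Fi22U.Gen
import Cfsg.Agent.Helper9.Fi22U.ChkC
import Cfsg.Agent.Helper9.Fi22U.Cover
import Cfsg.Agent.S0280
import Cfsg.Agent.S0283

set_option autoImplicit false

/-!
In the presented Fischer group, the subgroup generated by `a, c, d, e, f, g, h, i` and `(abcdeh)^5`
is a double cover of the projective special unitary group of degree 6 over the field with four
elements, and it does not split.
-/

namespace Cfsg.Agent.Helper9.Fi22U

open Cfsg Cfsg.Spor Cfsg.Agent.Helper5.TC Cfsg.Agent.Helper5.Fi22cTC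
open Cfsg.Agent.Helper9.J3 Cfsg.Agent.Helper9.J3C F4 Matrix Cfsg.Agent.Helper8.SURoot

/-- the projective special unitary group. -/
abbrev PSU6 : Type := Cfsg.PSU 6 F4 2

theorem prod_val : (∏ i ∈ Finset.range 6, (if Even i then 2 ^ (i + 1) + 1 else 2 ^ (i + 1) - 1)) =
    2525985 := by
  decide

theorem card_PSU6 : Nat.card PSU6 = 9196830720 := by
  change Nat.card (Cfsg.PSU 6 F4 2) = 9196830720
  have h := Cfsg.Agent.S0280.result (F := F4) (q := 2) rfl 6 (by norm_num)
  rw [prod_val] at h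
  norm_num at h
  omega

theorem center_PSU6 : Subgroup.center PSU6 = ⊥ := by
  have hs : IsSimpleGroup PSU6 :=
    Cfsg.Agent.S0283.result (F := F4) (q := 2) rfl 6 (by norm_num) (by omega)
  rcases hs.eq_bot_or_eq_top_of_normal (Subgroup.center PSU6) inferInstance with h | h
  · exact h
  · exfalso
    have hcomm : ∀ a b : PSU6, a * b = b * a := by
      intro a b
      have : b ∈ Subgroup.center PSU6 := by
        rw [h]
        trivial
      exact Subgroup.mem_center_iff.1 this a
    let _ : CommGroup PSU6 := { (inferInstance : Group PSU6) with mul_comm := hcomm }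
    have : Finite PSU6 := Nat.finite_of_card_ne_zero (by
      rw [card_PSU6]
      norm_num)
    have hp := IsSimpleGroup.prime_card (α := PSU6)
    rw [card_PSU6] at hp
    norm_num at hp

/-- the relation on the subgroup. -/
noncomputable def RH : Subgroup (↥HP × SU6) := RU.comap (MonoidHom.prodMap HP.subtype (MonoidHom.id SU6))

theorem exists_theta : ∃ θ : ↥HP →* PSU6, ∀ (h : ↥HP) (s : SU6), (h.1, s) ∈ RU →
    θ h = (s : PSU6) := by
  obtain ⟨θ, hθ⟩ := hom_of_graph (Subgroup.center SU6) RH (fun s hs => RU_fst s hs) (fun h => by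
    obtain ⟨m, hm⟩ := exists_rel h.1 h.2
    exact ⟨m, hm⟩)
  exact ⟨θ, fun h s hs => hθ h s hs⟩

theorem theta_surj (θ : ↥HP →* PSU6)
    (hθ : ∀ (h : ↥HP) (s : SU6), (h.1, s) ∈ RU → θ h = (s : PSU6)) : Function.Surjective θ := by
  have hle : MS ≤ θ.range.comap (QuotientGroup.mk' (Subgroup.center SU6)) := by
    unfold MS
    rw [Subgroup.closure_le]
    rintro _ ⟨i, rfl⟩
    obtain ⟨h, hh, hr⟩ := mgen_rel i
    exact ⟨⟨h, hh⟩, hθ ⟨h, hh⟩ _ hr⟩
  rw [MS_eq_top] at hle
  intro t
  obtain ⟨s, rfl⟩ := QuotientGroup.mk_surjective t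
  exact hle (Subgroup.mem_top s)

/-! ### the first letter is a power of a commutator -/

/-- the word of `(abcdeh)^5`. -/
def lW : List ℕ := [7, 4, 3, 2, 1, 0, 7, 4, 3, 2, 1, 0, 7, 4, 3, 2, 1, 0, 7, 4, 3, 2, 1, 0,
  7, 4, 3, 2, 1, 0]

/-- the first word. -/
def lx : List ℕ := [3, 2] ++ lW

/-- the second word. -/
def ly : List ℕ := [7, 5, 3, 4]

/-- the word of the commutator. -/
def lcm : List ℕ := ly.reverse ++ lx.reverse ++ ly ++ lx

theorem unpack_wC : unpack 361 wC = lcm ++ lcm ++ lcm ++ lcm ++ lcm ++ [0] := by decide +kernel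

theorem letters_wC : lettersOK 9 361 wC = true := by decide +kernel

theorem Wp_eq : Wp = rprod sg lW := by
  unfold Wp
  rw [word_92]
  rfl

/-- the first element. -/
noncomputable def xP : Equiv.Perm (Fin nP) := rprod sg lx

/-- the second element. -/
noncomputable def yP : Equiv.Perm (Fin nP) := rprod sg ly

theorem xP_eq : xP = Wp * (sg 2 * sg 3) := by
  unfold xP lx
  rw [rprod_append, ← Wp_eq]
  simp only [rprod, one_mul]

theorem yP_eq : yP = sg 4 * sg 3 * sg 5 * sg 7 := by
  unfold yP ly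
  simp only [rprod, one_mul]

theorem xP_mem : xP ∈ HP := by
  rw [xP_eq]
  exact HP.mul_mem Wp_mem_HP (HP.mul_mem (sg_mem_HP (by norm_num) (by norm_num))
    (sg_mem_HP (by norm_num) (by norm_num)))

theorem yP_mem : yP ∈ HP := by
  rw [yP_eq]
  exact HP.mul_mem (HP.mul_mem (HP.mul_mem (sg_mem_HP (by norm_num) (by norm_num))
    (sg_mem_HP (by norm_num) (by norm_num))) (sg_mem_HP (by norm_num) (by norm_num)))
    (sg_mem_HP (by norm_num) (by norm_num))

theorem rprod_reverse (s : List ℕ) : rprod sg s.reverse = (rprod sg s)⁻¹ :=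
  (inv_eq_of_mul_eq_one_right (rprod_reverse_mul sg s (fun x _ => sg_sq x))).symm

theorem rprod_lcm : rprod sg lcm = xP * yP * xP⁻¹ * yP⁻¹ := by
  unfold lcm
  rw [rprod_append, rprod_append, rprod_append, rprod_reverse, rprod_reverse]
  unfold xP yP
  simp only [mul_assoc]

theorem comm_pow : (xP * yP * xP⁻¹ * yP⁻¹) ^ 5 = sg 0 := by
  have h1 : rprod sg (unpack 361 wC) = 1 := by
    ext v
    rw [walk_apply _ _ letters_wC v, relC_ok v.val v.isLt]
    rfl
  rw [unpack_wC, rprod_append, rprod_append, rprod_append, rprod_append, rprod_append,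
    rprod_lcm] at h1
  have h2 : rprod sg [0] = sg 0 := by
    simp only [rprod, one_mul]
  rw [h2] at h1
  have h3 : (xP * yP * xP⁻¹ * yP⁻¹) ^ 5 = (sg 0)⁻¹ := by
    apply eq_inv_of_mul_eq_one_right
    rw [← h1]
    simp only [pow_succ, pow_zero, one_mul, mul_assoc]
  rw [h3, sg_inv]

/-- the first letter in the subgroup. -/
noncomputable def zH : ↥HP := ⟨sg 0, sg_mem_HP (by norm_num) (by norm_num)⟩

theorem zH_ne : zH ≠ 1 := by
  intro h
  exact sg_zero_ne (congrArg Subtype.val h)

theorem zH_comm : zH ∈ commutator ↥HP := by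
  have h := Subgroup.commutator_mem_commutator
    (Subgroup.mem_top (⟨xP, xP_mem⟩ : ↥HP)) (Subgroup.mem_top (⟨yP, yP_mem⟩ : ↥HP))
  rw [commutatorElement_def] at h
  have h5 := Subgroup.pow_mem _ h 5
  have e : zH = ((⟨xP, xP_mem⟩ : ↥HP) * ⟨yP, yP_mem⟩ * (⟨xP, xP_mem⟩ : ↥HP)⁻¹ *
      (⟨yP, yP_mem⟩ : ↥HP)⁻¹) ^ 5 := by
    apply Subtype.ext
    exact comm_pow.symm
  rw [commutator_def, e]
  exact h5

/-- the subgroup of permutations is a double cover that does not split. -/
theorem nonsplit_HP : Cfsg.IsNonsplitDoubleCover ↥HP PSU6 := by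
  obtain ⟨θ, hθ⟩ := exists_theta
  have : Finite ↥HP := Nat.finite_of_card_ne_zero (by
    rw [card_HP]
    norm_num)
  apply nonsplit_of_hom θ (theta_surj θ hθ) ?_ center_PSU6 zH zH_ne ?_ zH_comm
  · rw [card_HP, card_PSU6]
  · rw [hθ zH 1 zero_mem_RU]
    rfl

/-- the subgroup of the presented group is a double cover that does not split. -/
theorem main : ∃ (K : Type) (_ : Field K) (_ : Fintype K), Fintype.card K = 4 ∧
    Cfsg.IsNonsplitDoubleCover ↥HS (Cfsg.PSU 6 K 2) :=
  ⟨F4, inferInstance, inferInstance, rfl, nonsplit_congr eHS.symm nonsplit_HP⟩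

end Cfsg.Agent.Helper9.Fi22U
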