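import Mathlib
import Cfsg.Agent.Helper9.Fi22U.Main

set_option autoImplicit false

/-!
The presented Fischer group as a group of 3-transpositions: the conjugates of the first letter are
3510 involutions, the product of two of them has order at most 3, and the centraliser of each is
the subgroup generated by `a, c, d, e, f, g, h, i` and `(abcdeh)^5`, up to conjugation.
-/

namespace Cfsg.Agent.Helper9.Fi22U

open Cfsg Cfsg.Spor Cfsg.Agent.Helper5.TC Cfsg.Agent.Helper5.Fi22cTC
open Cfsg.Agent.S1687 MulAction Cfsg.Agent.Helper9.J3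

/-- the letters in the presented group. -/
noncomputable def gG (x : ℕ) : Fi22 := PresentedGroup.of (S1687.dec x)

theorem phi_gG {x : ℕ} (hx : x < 9) : phi (gG x) = sg x := by
  unfold gG
  rw [phi_of]
  congr 1
  interval_cases x <;> rfl

theorem gG_sq (x : ℕ) : gG x * gG x = 1 := by
  apply phi_injective
  unfold gG
  rw [map_mul, map_one, phi_of]
  exact sg_sq _

theorem gG_inv (x : ℕ) : (gG x)⁻¹ = gG x := inv_eq_of_mul_eq_one_right (gG_sq x)

theorem HS_eq : HS = (Subgroup.closure {s | s ∈ subs}).map (PresentedGroup.mk rels) := by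
  unfold HS
  rw [subs_set]

theorem gG_enc : (fun z => gG (enc z)) = fun z => (PresentedGroup.of z : Fi22) := by
  funext z
  unfold gG
  rw [dec_enc]

theorem rep : Rep gG D ctF nP HS phi where
  tbl := hT
  gen := fun x hx => by rw [phi_gG hx, sg_eq]
  ltr := hltr
  sub1 := by
    intro wi h1 h2
    obtain ⟨i, rfl⟩ := Nat.exists_eq_add_of_le h1
    have hi : i < subs.length := by
      have : D.nrel + i < 93 := h2
      have h84 : D.nrel = 84 := rfl
      change i < 9
      omega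
    rw [← subs_match i hi _ gG gG_sq, gG_enc, lift_mk_of, HS_eq]
    exact Subgroup.mem_map_of_mem _ (Subgroup.subset_closure (List.getElem_mem hi))

/-- the image of the first point. -/
noncomputable def pt (x : Fi22) : Fin nP := phi x ⟨0, by norm_num⟩

theorem pt_mul (x y : Fi22) : pt (x * y) = phi x (pt y) := by
  unfold pt
  rw [map_mul, Equiv.Perm.mul_apply]

theorem pt_one : pt 1 = ⟨0, by norm_num⟩ := by
  unfold pt
  rw [map_one]
  rfl

theorem reach_of_orb {S p sz : ℕ} {oc : List ℕ} (hp : p < nP)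
    (ho : orbOK ctF D 3510 S p sz oc = true) :
    ∀ v, tb S v = true → ∃ h ∈ HS, (phi h ⟨p, hp⟩).val = v := by
  unfold orbOK at ho
  simp only [Bool.and_eq_true] at ho
  obtain ⟨⟨⟨⟨_, _⟩, _⟩, _⟩, ho5⟩ := ho
  have hRS := Nat.eq_of_beq_eq_true ho5
  have hI0 : OInv HS phi ⟨p, hp⟩ (sb 0 p) := by
    intro w hw
    rcases tb_sb_cases hw with hw | hw
    · rw [tb_zero] at hw
      exact absurd hw (by simp)
    · refine ⟨1, HS.one_mem, ?_⟩
      rw [map_one, ← hw]
      rfl
  have hI := orbRun_inv phi rep ⟨p, hp⟩ oc _ hI0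
  rw [hRS] at hI
  exact hI

theorem reach1 : ∀ v, tb S1 v = true → ∃ h ∈ HS, (phi h ⟨1, by norm_num⟩).val = v :=
  reach_of_orb (by norm_num) orb1_ok

theorem reach2 : ∀ v, tb S2 v = true → ∃ h ∈ HS, (phi h ⟨6, by norm_num⟩).val = v :=
  reach_of_orb (by norm_num) orb2_ok

/-- the three kinds of points. -/
def chkS (v : ℕ) : Bool :=
  orB (Nat.beq v 0) (orB (andB (tb S2 v) (Nat.beq (ctF 0 v) v))
    (andB (tb S1 v) (Nat.blt 0 (Nat.xor (ctF 0 v) v))))

set_option maxRecDepth 1000000 in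
theorem chkS_all : allB chkS 3510 = true := by decide +kernel

theorem chkS_spec {v : ℕ} (hv : v < 3510) :
    v = 0 ∨ (tb S2 v = true ∧ ctF 0 v = v) ∨ (tb S1 v = true ∧ ctF 0 v ≠ v) := by
  have h := allB_true chkS_all hv
  rcases orB_true h with h | h
  · exact Or.inl (Nat.eq_of_beq_eq_true h)
  · rcases orB_true h with h | h
    · obtain ⟨h1, h2⟩ := andB_true h
      exact Or.inr (Or.inl ⟨h1, Nat.eq_of_beq_eq_true h2⟩)
    · obtain ⟨h1, h2⟩ := andB_true h
      refine Or.inr (Or.inr ⟨h1, ?_⟩)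
      intro e
      rw [e] at h2
      have : Nat.xor v v = 0 := Nat.xor_self v
      rw [this] at h2
      exact absurd h2 (by decide)

theorem tbl_facts : ctF 1 0 = 1 ∧ walkT ctF 4 (1 + 16 * 0 + 256 * 2 + 4096 * 1) 0 = 6 ∧
    (∀ x, x < 9 → x ≠ 1 → ctF x 0 = 0) ∧ wlk 0 = 0 := by
  decide +kernel

/-! ### the stabiliser of the first point -/

theorem hset_fix {g : Equiv.Perm (Fin nP)} (hg : g ∈ hset) :
    g ⟨0, by norm_num⟩ = ⟨0, by norm_num⟩ := by
  obtain ⟨_, _, h3, h4⟩ := tbl_facts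
  rcases hset_cases hg with ⟨x, hx, hx1, rfl⟩ | rfl
  · apply Fin.ext
    rw [sg_apply hx]
    exact h3 x hx hx1
  · apply Fin.ext
    change (Wp _).val = 0
    rw [Wp_apply]
    exact h4

theorem HP_fix : ∀ g ∈ HP, g ⟨0, by norm_num⟩ = (⟨0, by norm_num⟩ : Fin nP) := by
  intro g hg
  induction hg using Subgroup.closure_induction with
  | mem n hn => exact hset_fix hn
  | one => rfl
  | mul a b _ _ ha hb => rw [Equiv.Perm.mul_apply, hb, ha]
  | inv a _ ha =>
    rw [Equiv.Perm.inv_eq_iff_eq]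
    exact ha.symm

theorem phi_mem_HP {x : Fi22} (hx : x ∈ HS) : phi x ∈ HP := by
  rw [← map_HS]
  exact Subgroup.mem_map_of_mem phi hx

theorem pt_of_mem {x : Fi22} (hx : x ∈ HS) : pt x = ⟨0, by norm_num⟩ := HP_fix _ (phi_mem_HP hx)

theorem exists_pt (v : ℕ) (hv : v < nP) : ∃ x : Fi22, pt x = ⟨v, hv⟩ := by
  induction v using Nat.strong_induction_on with
  | _ v ih =>
    rcases Nat.eq_zero_or_pos v with rfl | hpos
    · exact ⟨1, pt_one⟩
    · obtain ⟨x, hx, hlt⟩ := hconn v hv (by omega)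
      have hx9 : x < 9 := hx
      have hw : ctF x v < nP := lt_trans hlt hv
      obtain ⟨g, hg0⟩ := ih (ctF x v) hlt hw
      refine ⟨gG x * g, ?_⟩
      rw [pt_mul, hg0, phi_gG hx9]
      apply Fin.ext
      rw [sg_apply hx9]
      exact ((tbl_ok hx9) v hv).2

/-- the elements that fix the first point. -/
noncomputable def S0 : Subgroup Fi22 :=
  (MulAction.stabilizer (Equiv.Perm (Fin nP)) (⟨0, by norm_num⟩ : Fin nP)).comap phi

theorem mem_S0 (x : Fi22) : x ∈ S0 ↔ pt x = ⟨0, by norm_num⟩ := Iff.rfl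

theorem HS_le_S0 : HS ≤ S0 := fun _ hx => (mem_S0 _).2 (pt_of_mem hx)

theorem index_S0 : S0.index = 3510 := by
  let _ : MulAction Fi22 (Fin nP) := MulAction.compHom (Fin nP) phi
  have h1 : (stabilizer Fi22 (⟨0, by norm_num⟩ : Fin nP)).index =
      (orbit Fi22 (⟨0, by norm_num⟩ : Fin nP)).ncard := index_stabilizer Fi22 _
  have h2 : orbit Fi22 (⟨0, by norm_num⟩ : Fin nP) = Set.univ := by
    ext v
    simp only [Set.mem_univ, iff_true]
    obtain ⟨x, hx⟩ := exists_pt v.val v.isLt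
    exact ⟨x, hx⟩
  have h3 : stabilizer Fi22 (⟨0, by norm_num⟩ : Fin nP) = S0 := by
    ext x
    rfl
  rw [h2, Set.ncard_univ, Nat.card_eq_fintype_card, Fintype.card_fin, h3] at h1
  exact h1

instance finiteFi22 : Finite Fi22 := Nat.finite_of_card_ne_zero (by
  rw [Cfsg.Agent.S1696.result.2]
  norm_num)

theorem S0_eq : S0 = HS := by
  symm
  apply Subgroup.eq_of_le_of_card_ge HS_le_S0
  have h1 := Subgroup.index_mul_card HS
  have h2 := Subgroup.index_mul_card S0
  rw [index_HS] at h1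
  rw [index_S0] at h2
  have : 3510 * Nat.card ↥S0 = 3510 * Nat.card ↥HS := by rw [h1, h2]
  exact le_of_eq (Nat.eq_of_mul_eq_mul_left (by norm_num) this)

theorem mem_HS_of_pt {x : Fi22} (hx : pt x = ⟨0, by norm_num⟩) : x ∈ HS := by
  rw [← S0_eq]
  exact (mem_S0 x).2 hx

theorem mem_HS_of_pt_eq {x y : Fi22} (h : pt x = pt y) : y⁻¹ * x ∈ HS := by
  apply mem_HS_of_pt
  rw [pt_mul, h]
  unfold pt
  rw [← Equiv.Perm.mul_apply, ← map_mul, inv_mul_cancel, map_one]
  rfl

/-! ### the first letter and its conjugates -/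

/-- the first letter. -/
noncomputable def aG : Fi22 := gG 0

/-- the second letter. -/
noncomputable def bG : Fi22 := gG 1

theorem phi_aG : phi aG = sg 0 := phi_gG (by norm_num)

theorem aG_ne : aG ≠ 1 := by
  intro h
  apply sg_zero_ne
  rw [← phi_aG, h, map_one]

theorem aG_sq : aG * aG = 1 := gG_sq 0

theorem orderOf_aG : orderOf aG = 2 :=
  orderOf_eq_prime (by rw [sq]; exact aG_sq) aG_ne

theorem zH_central : zH ∈ Subgroup.center ↥HP := by
  obtain ⟨θ, hθ⟩ := exists_theta
  have : Finite ↥HP := Nat.finite_of_card_ne_zero (by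
    rw [card_HP]
    norm_num)
  have h := (center_eq_ker θ (theta_surj θ hθ) (by rw [card_HP, card_PSU6]) center_PSU6 zH zH_ne
    (by
      rw [hθ zH 1 zero_mem_RU]
      rfl)).1
  rw [h, MonoidHom.mem_ker, hθ zH 1 zero_mem_RU]
  rfl

/-- the first letter commutes with the subgroup. -/
theorem aG_comm {h : Fi22} (hh : h ∈ HS) : h * aG = aG * h := by
  apply phi_injective
  rw [map_mul, map_mul, phi_aG]
  have h1 := Subgroup.mem_center_iff.1 zH_central ⟨phi h, phi_mem_HP hh⟩
  exact congrArg Subtype.val h1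

theorem aG_conj {h : Fi22} (hh : h ∈ HS) : h * aG * h⁻¹ = aG := by
  rw [aG_comm hh, mul_assoc, mul_inv_cancel, mul_one]

theorem ab_cube : (aG * bG) ^ 3 = 1 := by
  apply phi_injective
  rw [map_pow, map_mul, map_one, phi_aG]
  unfold bG
  rw [phi_gG (by norm_num)]
  have := sg_cox Fi22.Gen.a Fi22.Gen.b
  exact this

/-- the element that conjugates the first letter to the third. -/
noncomputable def yG : Fi22 := gG 1 * gG 2 * gG 0 * gG 1

theorem pt_yG : pt yG = ⟨6, by norm_num⟩ := by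
  unfold pt yG
  rw [map_mul, map_mul, map_mul, phi_gG (by norm_num), phi_gG (by norm_num),
    phi_gG (by norm_num)]
  apply Fin.ext
  rw [Equiv.Perm.mul_apply, Equiv.Perm.mul_apply, Equiv.Perm.mul_apply,
    sg_apply (by norm_num), sg_apply (by norm_num), sg_apply (by norm_num),
    sg_apply (by norm_num)]
  exact tbl_facts.2.1

theorem braid {x y : Equiv.Perm (Fin nP)} (hx : x * x = 1) (hy : y * y = 1)
    (h : (x * y) ^ 3 = 1) : y * x * y = x * y * x := by
  have hxi : x⁻¹ = x := inv_eq_of_mul_eq_one_right hx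
  have hyi : y⁻¹ = y := inv_eq_of_mul_eq_one_right hy
  have h2 : x * y * (x * y) * (x * y) = 1 := by
    rw [← h, pow_succ, pow_succ, pow_one]
  calc y * x * y = x⁻¹ * (x * y * (x * y) * (x * y)) * y⁻¹ * x⁻¹ := by group
    _ = x⁻¹ * y⁻¹ * x⁻¹ := by rw [h2, mul_one]
    _ = x * y * x := by rw [hxi, hyi]

theorem yG_conj : yG * aG * yG⁻¹ ≠ aG := by
  intro h
  have h1 := congrArg phi h
  unfold yG aG at h1
  rw [map_mul, map_mul, map_mul, map_mul, map_mul, map_inv, map_mul, map_mul, map_mul,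
    phi_gG (by norm_num), phi_gG (by norm_num), phi_gG (by norm_num)] at h1
  -- the conjugate is the third letter
  have hab := sg_cox Fi22.Gen.a Fi22.Gen.b
  have hbc := sg_cox Fi22.Gen.b Fi22.Gen.c
  have hac := sg_cox Fi22.Gen.a Fi22.Gen.c
  change (sg 0 * sg 1) ^ 3 = 1 at hab
  change (sg 1 * sg 2) ^ 3 = 1 at hbc
  change (sg 0 * sg 2) ^ 2 = 1 at hac
  have b1 := braid (sg_sq 0) (sg_sq 1) hab
  have b2 := braid (sg_sq 1) (sg_sq 2) hbc
  have i0 := sg_inv 0
  have i1 := sg_inv 1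
  have i2 := sg_inv 2
  have e : sg 1 * sg 2 * sg 0 * sg 1 * sg 0 * (sg 1 * sg 2 * sg 0 * sg 1)⁻¹ = sg 2 := by
    rw [_root_.mul_inv_rev, _root_.mul_inv_rev, _root_.mul_inv_rev, i0, i1, i2]
    calc sg 1 * sg 2 * sg 0 * sg 1 * sg 0 * (sg 1 * (sg 0 * (sg 2 * sg 1)))
        = sg 1 * sg 2 * (sg 0 * sg 1 * sg 0) * sg 1 * sg 0 * sg 2 * sg 1 := by group
      _ = sg 1 * sg 2 * (sg 1 * sg 0 * sg 1) * sg 1 * sg 0 * sg 2 * sg 1 := by rw [← b1]
      _ = sg 1 * sg 2 * sg 1 * sg 0 * (sg 1 * sg 1) * sg 0 * sg 2 * sg 1 := by group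
      _ = sg 1 * sg 2 * sg 1 * (sg 0 * sg 0) * sg 2 * sg 1 := by rw [sg_sq 1]; group
      _ = sg 1 * sg 2 * sg 1 * sg 2 * sg 1 := by rw [sg_sq 0]; group
      _ = sg 1 * sg 2 * (sg 1 * sg 2 * sg 1) := by group
      _ = sg 1 * sg 2 * (sg 2 * sg 1 * sg 2) := by rw [b2]
      _ = sg 1 * (sg 2 * sg 2) * sg 1 * sg 2 := by group
      _ = sg 2 := by rw [sg_sq 2, mul_one, sg_sq 1, one_mul]
  rw [e] at h1
  -- the third letter moves a point that the first letter fixes
  have h2 := sg_apply (x := 2) (by norm_num) ⟨0, by norm_num⟩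
  have h3 := sg_apply (x := 0) (by norm_num) ⟨1, by norm_num⟩
  have h4 := sg_apply (x := 2) (by norm_num) ⟨1, by norm_num⟩
  rw [h1] at h4
  rw [h4] at h3
  revert h3
  decide +kernel

/-- the product of the first letter and a conjugate of it has order at most 3. -/
theorem prod_conj (x : Fi22) :
    (aG * (x * aG * x⁻¹)) ^ 2 = 1 ∨ (aG * (x * aG * x⁻¹)) ^ 3 = 1 := by
  rcases chkS_spec (pt x).isLt with h0 | ⟨h2, hfix⟩ | ⟨h1, _⟩
  · -- the conjugate is the first letter
    have hx : x ∈ HS := mem_HS_of_pt (Fin.ext h0)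
    left
    rw [aG_conj hx, aG_sq, one_pow]
  · -- the first letter fixes the point: the two commute
    left
    have hf : pt (aG * x) = pt x := by
      rw [pt_mul, phi_aG]
      apply Fin.ext
      rw [sg_apply (by norm_num)]
      exact hfix
    have hm : x⁻¹ * (aG * x) ∈ HS := mem_HS_of_pt_eq hf
    have hc := aG_comm hm
    have e : aG * (x * aG * x⁻¹) = (x * aG * x⁻¹) * aG := by
      calc aG * (x * aG * x⁻¹) = x * (x⁻¹ * (aG * x) * aG) * x⁻¹ := by group
        _ = x * (aG * (x⁻¹ * (aG * x))) * x⁻¹ := by rw [hc]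
        _ = _ := by group
    rw [sq]
    calc aG * (x * aG * x⁻¹) * (aG * (x * aG * x⁻¹))
        = aG * (x * aG * x⁻¹) * ((x * aG * x⁻¹) * aG) := by rw [e]
      _ = aG * (x * (aG * aG) * x⁻¹) * aG := by group
      _ = 1 := by rw [aG_sq, mul_one, mul_inv_cancel, mul_one, aG_sq]
  · -- the point is in the large orbit
    right
    obtain ⟨h, hh, hv⟩ := reach1 _ h1
    have hb : pt bG = ⟨1, by norm_num⟩ := by
      unfold pt bG
      rw [phi_gG (by norm_num)]
      apply Fin.ext
      rw [sg_apply (by norm_num)]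
      exact tbl_facts.1
    have hp : pt x = pt (h * bG) := by
      rw [pt_mul, hb]
      exact Fin.ext hv.symm
    have hs : (h * bG)⁻¹ * x ∈ HS := mem_HS_of_pt_eq hp
    set s := (h * bG)⁻¹ * x with hsdef
    have hx : x = h * bG * s := by
      rw [hsdef]
      group
    have hbi : bG⁻¹ = bG := gG_inv 1
    have e : aG * (x * aG * x⁻¹) = h * ((aG * bG) * (aG * bG)) * h⁻¹ := by
      rw [hx]
      calc aG * (h * bG * s * aG * (h * bG * s)⁻¹)
          = aG * h * bG * (s * aG * s⁻¹) * bG⁻¹ * h⁻¹ := by group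
        _ = h * aG * bG * aG * bG * h⁻¹ := by rw [aG_conj hs, hbi, ← aG_comm hh]
        _ = _ := by group
    rw [e]
    have h3 : (aG * bG * (aG * bG)) ^ 3 = 1 := by
      rw [← sq, ← pow_mul]
      change (aG * bG) ^ (3 * 2) = 1
      rw [pow_mul, ab_cube, one_pow]
    rw [conj_pow, h3, mul_one, mul_inv_cancel]

/-- an element of the centraliser of the first letter does not move the first point to a point of
the second kind. -/
theorem cent_case2 {x : Fi22} (hconj : x * aG * x⁻¹ = aG) (h2 : tb S2 (pt x).val = true) :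
    False := by
  obtain ⟨h, hh, hv⟩ := reach2 _ h2
  have hp : pt x = pt (h * yG) := by
    rw [pt_mul, pt_yG]
    exact Fin.ext hv.symm
  have hs : (h * yG)⁻¹ * x ∈ HS := mem_HS_of_pt_eq hp
  have hx' : x = h * yG * ((h * yG)⁻¹ * x) := by group
  apply yG_conj
  have e : x * aG * x⁻¹ = h * (yG * aG * yG⁻¹) * h⁻¹ := by
    conv_lhs => rw [hx']
    calc h * yG * ((h * yG)⁻¹ * x) * aG * (h * yG * ((h * yG)⁻¹ * x))⁻¹
        = h * yG * (((h * yG)⁻¹ * x) * aG * ((h * yG)⁻¹ * x)⁻¹) * yG⁻¹ * h⁻¹ := by group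
      _ = _ := by rw [aG_conj hs]; group
  rw [e] at hconj
  calc yG * aG * yG⁻¹ = h⁻¹ * (h * (yG * aG * yG⁻¹) * h⁻¹) * h := by group
    _ = h⁻¹ * aG * h := by rw [hconj]
    _ = h⁻¹ * (aG * h) := by group
    _ = aG := by rw [← aG_comm hh]; group

theorem pt_aG : pt aG = ⟨0, by norm_num⟩ := by
  unfold pt
  rw [phi_aG]
  apply Fin.ext
  rw [sg_apply (by norm_num)]
  exact tbl_facts.2.2.1 0 (by norm_num) (by norm_num)

/-- an element of the centraliser of the first letter does not move the first point to a point of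
the third kind. -/
theorem cent_case3 {x : Fi22} (hxa : x * aG = aG * x) : ctF 0 (pt x).val = (pt x).val := by
  have hf : pt (aG * x) = pt x := by
    rw [← hxa, pt_mul, pt_aG]
    rfl
  rw [pt_mul, phi_aG] at hf
  have := congrArg Fin.val hf
  rw [sg_apply (by norm_num)] at this
  exact this

/-- the centraliser of the first letter is the subgroup. -/
theorem centralizer_aG : Subgroup.centralizer ({aG} : Set Fi22) = HS := by
  apply le_antisymm
  · intro x hx
    have hxa : x * aG = aG * x := by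
      have := Subgroup.mem_centralizer_iff.1 hx aG (Set.mem_singleton aG)
      exact this.symm
    have hconj : x * aG * x⁻¹ = aG := by rw [hxa, mul_assoc, mul_inv_cancel, mul_one]
    rcases chkS_spec (pt x).isLt with h0 | ⟨h2, _⟩ | ⟨_, hmove⟩
    · exact mem_HS_of_pt (Fin.ext h0)
    · exact absurd (cent_case2 hconj h2) id
    · exact absurd (cent_case3 hxa) hmove
  · intro x hx
    rw [Subgroup.mem_centralizer_iff]
    intro y hy
    rw [Set.mem_singleton_iff] at hy
    rw [hy]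
    exact (aG_comm hx).symm

end Cfsg.Agent.Helper9.Fi22U
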