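import Mathlib
import Cfsg.Agent.Helper9.Fi22U.Trans

set_option autoImplicit false

/-!
The conjugates of the first letter of the presented Fischer group: a class of 3510
3-transpositions that generates the group, with the centraliser of each a double cover of the
projective special unitary group that does not split.
-/

namespace Cfsg.Agent.Helper9.Fi22U

open Cfsg Cfsg.Spor Cfsg.Agent.Helper9.J3C

/-- the conjugates of the first letter. -/
def DG : Set Fi22 := conjugatesOf aG

theorem mem_DG (d : Fi22) : d ∈ DG ↔ ∃ x, x * aG * x⁻¹ = d := isConj_iff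

theorem conj_sq (x : Fi22) : (x * aG * x⁻¹) * (x * aG * x⁻¹) = 1 := by
  calc (x * aG * x⁻¹) * (x * aG * x⁻¹) = x * (aG * aG) * x⁻¹ := by group
    _ = 1 := by rw [aG_sq, mul_one, mul_inv_cancel]

theorem conj_ne (x : Fi22) : x * aG * x⁻¹ ≠ 1 := by
  intro h
  apply aG_ne
  calc aG = x⁻¹ * (x * aG * x⁻¹) * x := by group
    _ = 1 := by rw [h, mul_one, inv_mul_cancel]

theorem three_DG : Cfsg.IsThreeTranspositionSet DG := by
  constructor
  · intro d hd
    obtain ⟨x, rfl⟩ := (mem_DG d).1 hd
    exact orderOf_eq_prime (by rw [sq]; exact conj_sq x) (conj_ne x)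
  · intro d hd e he
    obtain ⟨x, rfl⟩ := (mem_DG d).1 hd
    obtain ⟨y, rfl⟩ := (mem_DG e).1 he
    have e1 : x * aG * x⁻¹ * (y * aG * y⁻¹) =
        x * (aG * ((x⁻¹ * y) * aG * (x⁻¹ * y)⁻¹)) * x⁻¹ := by group
    rw [e1, conj_pow, conj_pow]
    rcases prod_conj (x⁻¹ * y) with h | h
    · left
      rw [h, mul_one, mul_inv_cancel]
    · right
      rw [h, mul_one, mul_inv_cancel]

theorem closure_DG : Subgroup.closure DG = ⊤ := by
  have hs : IsSimpleGroup Fi22 := Cfsg.Agent.S1696.result.1
  have e : DG = Group.conjugatesOfSet ({aG} : Set Fi22) := by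
    unfold DG Group.conjugatesOfSet
    simp
  have h1 : Subgroup.closure DG = Subgroup.normalClosure ({aG} : Set Fi22) := by
    rw [e]
    rfl
  rw [h1]
  rcases hs.eq_bot_or_eq_top_of_normal (Subgroup.normalClosure ({aG} : Set Fi22))
    Subgroup.normalClosure_normal with h | h
  · exfalso
    apply aG_ne
    have : aG ∈ Subgroup.normalClosure ({aG} : Set Fi22) :=
      Subgroup.subset_normalClosure rfl
    rw [h, Subgroup.mem_bot] at this
    exact this
  · exact h

theorem class_DG : Cfsg.IsThreeTranspositionClass DG :=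
  ⟨three_DG, ⟨aG, mem_conjugatesOf_self, rfl⟩, closure_DG⟩

theorem card_DG : Nat.card DG = 3510 := by
  have hC : ∀ x y : Fi22, x⁻¹ * y ∈ HS ↔ x * aG * x⁻¹ = y * aG * y⁻¹ := by
    intro x y
    rw [← centralizer_aG, Subgroup.mem_centralizer_iff]
    constructor
    · intro h
      have h1 := h aG rfl
      calc x * aG * x⁻¹ = x * (aG * (x⁻¹ * y)) * y⁻¹ := by group
        _ = x * (x⁻¹ * y * aG) * y⁻¹ := by rw [h1]
        _ = _ := by group
    · intro h z hz
      rw [Set.mem_singleton_iff] at hz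
      rw [hz]
      calc aG * (x⁻¹ * y) = x⁻¹ * (x * aG * x⁻¹) * y := by group
        _ = x⁻¹ * (y * aG * y⁻¹) * y := by rw [h]
        _ = _ := by group
  let f : Fi22 ⧸ HS → DG := fun q => Quotient.liftOn' q
    (fun x => (⟨x * aG * x⁻¹, (mem_DG _).2 ⟨x, rfl⟩⟩ : DG)) (by
      intro x y hxy
      rw [QuotientGroup.leftRel_apply] at hxy
      exact Subtype.ext ((hC x y).1 hxy))
  have hf : ∀ x : Fi22, (f (x : Fi22 ⧸ HS)).1 = x * aG * x⁻¹ := fun x => rfl
  have hbij : Function.Bijective f := by
    constructor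
    · intro q q' h
      induction q using QuotientGroup.induction_on with
      | H x =>
        induction q' using QuotientGroup.induction_on with
        | H y =>
          rw [QuotientGroup.eq]
          apply (hC x y).2
          have := congrArg Subtype.val h
          rwa [hf, hf] at this
    · rintro ⟨d, hd⟩
      obtain ⟨x, rfl⟩ := (mem_DG d).1 hd
      exact ⟨(x : Fi22 ⧸ HS), Subtype.ext (hf x)⟩
  rw [← Nat.card_congr (Equiv.ofBijective f hbij)]
  exact index_HS

/-- the centraliser of a conjugate of the first letter. -/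
theorem cent_DG (d : Fi22) (hd : d ∈ DG) :
    Cfsg.IsNonsplitDoubleCover ↥(Subgroup.centralizer ({d} : Set Fi22)) (Cfsg.PSU 6 F4 2) := by
  obtain ⟨x, rfl⟩ := (mem_DG d).1 hd
  have hmap : HS.map (MulAut.conj x).toMonoidHom =
      Subgroup.centralizer ({x * aG * x⁻¹} : Set Fi22) := by
    ext g
    rw [Subgroup.mem_map, Subgroup.mem_centralizer_iff]
    constructor
    · rintro ⟨h, hh, rfl⟩ z hz
      rw [Set.mem_singleton_iff] at hz
      rw [hz]
      change x * aG * x⁻¹ * (x * h * x⁻¹) = x * h * x⁻¹ * (x * aG * x⁻¹)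
      calc x * aG * x⁻¹ * (x * h * x⁻¹) = x * (aG * h) * x⁻¹ := by group
        _ = x * (h * aG) * x⁻¹ := by rw [aG_comm hh]
        _ = _ := by group
    · intro h
      have h1 := h (x * aG * x⁻¹) rfl
      refine ⟨x⁻¹ * g * x, ?_, ?_⟩
      · rw [← centralizer_aG, Subgroup.mem_centralizer_iff]
        intro z hz
        rw [Set.mem_singleton_iff] at hz
        rw [hz]
        calc aG * (x⁻¹ * g * x) = x⁻¹ * (x * aG * x⁻¹ * g) * x := by group
          _ = x⁻¹ * (g * (x * aG * x⁻¹)) * x := by rw [h1]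
          _ = _ := by group
      · change x * (x⁻¹ * g * x) * x⁻¹ = g
        group
  let e : ↥HS ≃* ↥(Subgroup.centralizer ({x * aG * x⁻¹} : Set Fi22)) :=
    (HS.equivMapOfInjective (MulAut.conj x).toMonoidHom (MulAut.conj x).injective).trans
      (MulEquiv.subgroupCongr hmap)
  exact nonsplit_congr e (nonsplit_congr eHS.symm nonsplit_HP)

/-- the presented Fischer group as a group of 3-transpositions. -/
theorem main2 : ∃ D : Set Fi22, Cfsg.IsThreeTranspositionClass D ∧ Nat.card D = 3510 ∧
    ∀ d ∈ D, ∃ (F : Type) (_ : Field F) (_ : Fintype F), Fintype.card F = 4 ∧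
      Cfsg.IsNonsplitDoubleCover (Subgroup.centralizer ({d} : Set Fi22)) (Cfsg.PSU 6 F 2) :=
  ⟨DG, class_DG, card_DG, fun d hd => ⟨F4, inferInstance, inferInstance, rfl, cent_DG d hd⟩⟩

end Cfsg.Agent.Helper9.Fi22U
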